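import Cfsg.Agent.Hall.Schmidt
import Cfsg.Agent.CoprimeAction.Frattini

/-!
The Sylow subgroup that is normal in a minimal non-nilpotent group.
-/

set_option autoImplicit false
set_option linter.style.haveILetI false

namespace CfsgLib.SchmidtPLength

open scoped commutatorElement Pointwise

/-- What is used about the normal Sylow subgroup of a minimal non-nilpotent group. -/
def Good (p : ℕ) (T : Type*) [Group T] : Prop :=
  (∀ a b : T, a * b = b * a) ∨
    ((∀ x : T, x ^ p ∈ Subgroup.center T) ∧ (∀ a b : T, ⁅a, b⁆ ∈ Subgroup.center T) ∧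
      (∀ x : T, x ∉ Subgroup.center T → ∀ z ∈ Subgroup.center T, ∃ y : T, ⁅x, y⁆ = z) ∧
      ((Subgroup.center T).index ≤ p ^ 2 → p ≠ 3 ∧
        (p = 2 → ∀ x : T, x ^ 2 = 1 → x ∈ Subgroup.center T)))

theorem mem_center_map_iff {S T : Type*} [Group S] [Group T] (e : S ≃* T) (s : S) :
    e s ∈ Subgroup.center T ↔ s ∈ Subgroup.center S := by
  rw [Subgroup.mem_center_iff, Subgroup.mem_center_iff]
  constructor
  · intro h g; apply e.injective; simpa using h (e g)
  · intro h g; obtain ⟨g, rfl⟩ := e.surjective g; rw [← map_mul, ← map_mul, h g]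

theorem good_of_equiv {p : ℕ} {S T : Type*} [Group S] [Group T] (e : S ≃* T) (h : Good p S) : Good p T := by
  rcases h with h | ⟨hpow, hcomm, hsurj, hsmall⟩
  · left
    intro a b
    obtain ⟨a, rfl⟩ := e.surjective a
    obtain ⟨b, rfl⟩ := e.surjective b
    rw [← map_mul, ← map_mul, h a b]
  have hcen : Subgroup.center T = (Subgroup.center S).comap e.symm.toMonoidHom := by
    ext t
    obtain ⟨t, rfl⟩ := e.surjective t
    rw [Subgroup.mem_comap, mem_center_map_iff]
    simp
  refine Or.inr ⟨fun x => ?_, fun a b => ?_, fun x hx z hz => ?_, fun hidx => ?_⟩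
  · obtain ⟨x, rfl⟩ := e.surjective x
    rw [← map_pow, mem_center_map_iff]; exact hpow x
  · obtain ⟨a, rfl⟩ := e.surjective a
    obtain ⟨b, rfl⟩ := e.surjective b
    rw [show ⁅e a, e b⁆ = e ⁅a, b⁆ by simp [commutatorElement_def], mem_center_map_iff]; exact hcomm a b
  · obtain ⟨x, rfl⟩ := e.surjective x
    obtain ⟨z, rfl⟩ := e.surjective z
    rw [mem_center_map_iff] at hx hz
    obtain ⟨y, hy⟩ := hsurj x hx z hz
    exact ⟨e y, by rw [← hy]; simp [commutatorElement_def]⟩
  · rw [hcen, Subgroup.index_comap_of_surjective (f := e.symm.toMonoidHom) _ e.symm.surjective] at hidx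
    refine ⟨(hsmall hidx).1, fun hp2 x hx => ?_⟩
    obtain ⟨x, rfl⟩ := e.surjective x
    rw [mem_center_map_iff]
    refine (hsmall hidx).2 hp2 x (e.injective ?_)
    rw [map_pow, map_one]; exact hx

theorem good_of_minimal {X : Type*} [Group X] [Finite X] {p : ℕ} [hp : Fact p.Prime]
    (hX : Cfsg.IsMinimalNonNilpotent X) (P : Sylow p X) (hPn : (P : Subgroup X).Normal)
    (hP1 : (P : Subgroup X) ≠ ⊥) : Good p (P : Subgroup X) := by
  classical
  obtain ⟨p₀, q₀, hp₀, hq₀, hne, P₀, Q₀, hPc, hQn, htop⟩ := CfsgLib.Hall.schmidt_structure hX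
  haveI := Fact.mk hp₀
  haveI := Fact.mk hq₀
  haveI := hPn
  haveI := hQn
  have hnilQ : Group.IsNilpotent (Q₀ : Subgroup X) := Q₀.2.isNilpotent
  have hnilP : Group.IsNilpotent (P₀ : Subgroup X) := P₀.2.isNilpotent
  -- the two factors do not commute
  have hncomm : ¬ ∀ a ∈ (Q₀ : Subgroup X), ∀ b ∈ (P₀ : Subgroup X), a * b = b * a := by
    intro h
    apply hX.1
    let f : ↥(Q₀ : Subgroup X) × ↥(P₀ : Subgroup X) →* X :=
      MonoidHom.noncommCoprod (Q₀ : Subgroup X).subtype (P₀ : Subgroup X).subtype fun a b => h a a.2 b b.2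
    refine Group.nilpotent_of_surjective f fun x => ?_
    obtain ⟨a, ha, b, hb, rfl⟩ : ∃ a ∈ (Q₀ : Subgroup X), ∃ b ∈ (P₀ : Subgroup X), a * b = x := by
      have hx : x ∈ (Q₀ : Subgroup X) ⊔ P₀ := by rw [sup_comm, htop]; trivial
      obtain ⟨a, ha, b, hb, h⟩ := Subgroup.mem_sup_of_normal_left.1 hx
      exact ⟨a, ha, b, hb, h⟩
    exact ⟨(⟨a, ha⟩, ⟨b, hb⟩), rfl⟩
  have hcard : ∀ {s : ℕ} [Fact s.Prime], s ≠ p → ∀ S : Sylow s X,
      (P : Subgroup X) ⊓ (S : Subgroup X) = ⊥ := fun {s} _ hs S =>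
    (IsPGroup.disjoint_of_ne p s hs.symm _ _ P.2 S.2).eq_bot
  have hpP : p ≠ p₀ := by
    rintro rfl
    haveI := Sylow.unique_of_normal P hPn
    have hP₀ : P₀ = P := Subsingleton.elim _ _
    subst hP₀
    apply hncomm
    intro a ha b hb
    exact Subgroup.commute_of_normal_of_disjoint _ _ hQn hPn
      (IsPGroup.disjoint_of_ne q₀ p hne.symm _ _ Q₀.2 P₀.2) a b ha hb
  have hpq : p = q₀ := by
    by_contra hpq
    apply hP1
    obtain ⟨i, hi⟩ := P.2.exists_card_eq
    obtain ⟨j, hj⟩ := P₀.2.exists_card_eq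
    obtain ⟨l, hl⟩ := Q₀.2.exists_card_eq
    have hd : Nat.card X ∣ q₀ ^ l * p₀ ^ j := by
      have h := CfsgLib.Hall.card_sup_mul_card_inf (Q₀ : Subgroup X) (P₀ : Subgroup X)
      rw [sup_comm, htop, Subgroup.card_top, hj, hl] at h
      exact ⟨_, h.symm⟩
    have hco : (Nat.card (P : Subgroup X)).Coprime (q₀ ^ l * p₀ ^ j) := by
      rw [hi]
      exact Nat.Coprime.mul_right (Nat.Coprime.pow _ _ ((Nat.coprime_primes hp.out hq₀).2 hpq))
        (Nat.Coprime.pow _ _ ((Nat.coprime_primes hp.out hp₀).2 hpP))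
    exact Subgroup.card_eq_one.1
      (Nat.eq_one_of_dvd_coprimes hco dvd_rfl ((Subgroup.card_subgroup_dvd_card _).trans hd))
  subst hpq
  haveI := Sylow.unique_of_normal P hPn
  have hQP : Q₀ = P := Subsingleton.elim _ _
  subst hQP
  -- from here on the Sylow subgroup is `Q₀`
  set A : Subgroup X := (Q₀ : Subgroup X) with hA
  obtain ⟨⟨c, hcP⟩, hgen⟩ := hPc.exists_generator
  have hcz : (P₀ : Subgroup X) = Subgroup.zpowers c := by
    refine le_antisymm (fun x hx => ?_) (Subgroup.zpowers_le.2 hcP)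
    obtain ⟨i, hi⟩ := Subgroup.mem_zpowers_iff.1 (hgen ⟨x, hx⟩)
    exact Subgroup.mem_zpowers_iff.2 ⟨i, congrArg Subtype.val hi⟩
  have hdisj : ∀ x, x ∈ A → x ∈ Subgroup.zpowers c → x = 1 := fun x hx hx' => by
    have : x ∈ (Q₀ : Subgroup X) ⊓ (P₀ : Subgroup X) := ⟨hx, hcz ▸ hx'⟩
    rwa [hcard hpP.symm P₀, Subgroup.mem_bot] at this
  have hcop : (orderOf c).Coprime p := by
    obtain ⟨j, hj⟩ := P₀.2.exists_card_eq
    have := Subgroup.orderOf_dvd_natCard _ hcP
    rw [hj] at this
    exact Nat.Coprime.coprime_dvd_left this (((Nat.coprime_primes hp₀ hp.out).2 hpP.symm).pow_left j)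
  have hcnil : ∀ B : Subgroup X, B ≤ A → (∀ b ∈ B, c * b * c⁻¹ ∈ B) → B ≠ A → ∀ b ∈ B, c * b = b * c := by
    intro B hBA hinv hBne b hb
    have hcN : Subgroup.zpowers c ≤ Subgroup.normalizer (B : Set X) :=
      Subgroup.zpowers_le.2 (Subgroup.mem_normalizer_fintype hinv)
    have hprop : Subgroup.zpowers c ⊔ B ≠ ⊤ := by
      intro ht
      refine hBne (le_antisymm hBA fun a ha => ?_)
      have ha' : a ∈ ((Subgroup.zpowers c : Set X) * (B : Set X)) := by
        rw [← Subgroup.coe_mul_of_left_le_normalizer_right _ _ hcN, ht]; trivial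
      obtain ⟨u, hu, v, hv, rfl⟩ := ha'
      have h1 : u ∈ A := by simpa using A.mul_mem ha (A.inv_mem (hBA hv))
      simpa [hdisj u h1 hu] using hv
    haveI := hX.2 _ hprop
    exact (CfsgLib.Hall.commute_of_nilpotent_le (Subgroup.zpowers c ⊔ B) hpP.symm le_sup_left le_sup_right
      (hcz ▸ P₀.2 : IsPGroup p₀ (Subgroup.zpowers c)) (Q₀.2.to_le hBA) c (Subgroup.mem_zpowers c) b hb)
  -- conjugation by `c`
  have hconj : ∀ a ∈ A, c * a * c⁻¹ ∈ A := fun a ha => hQn.conj_mem a ha c
  have hcA : ¬ ∀ a ∈ A, c * a = a * c := by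
    intro h
    apply hncomm
    intro a ha b hb
    rw [hcz] at hb
    obtain ⟨i, rfl⟩ := Subgroup.mem_zpowers_iff.1 hb
    exact ((show Commute c a from h a ha).zpow_left i).symm.eq
  -- a twist by a fixed element is trivial
  have htwist : ∀ a ∈ A, c * (a⁻¹ * (c * a * c⁻¹)) = (a⁻¹ * (c * a * c⁻¹)) * c → c * a = a * c := by
    intro a ha h
    set e := a⁻¹ * (c * a * c⁻¹) with he
    have hiter : ∀ i : ℕ, c ^ i * a * (c ^ i)⁻¹ = a * e ^ i := by
      intro i
      induction i with
      | zero => simp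
      | succ i ih =>
        have h2 : Commute c (e ^ i) := Commute.pow_right h i
        have h3 : c ^ (i + 1) * a * (c ^ (i + 1))⁻¹ = c * (c ^ i * a * (c ^ i)⁻¹) * c⁻¹ := by
          rw [pow_succ']; group
        rw [h3, ih, ← mul_assoc c a, mul_assoc (c * a), ← h2.inv_left.eq, pow_succ' e, ← mul_assoc a, he]
        group
    have h1 : e ^ orderOf c = 1 := by
      have := hiter (orderOf c)
      rw [pow_orderOf_eq_one] at this
      simpa using this
    obtain ⟨i, hi⟩ := IsPGroup.iff_orderOf.1 Q₀.2 ⟨e, A.mul_mem (A.inv_mem ha) (hconj a ha)⟩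
    rw [Subgroup.orderOf_mk] at hi
    have : orderOf e = 1 := Nat.eq_one_of_dvd_coprimes (hcop.pow_right i)
      (orderOf_dvd_of_pow_eq_one h1) (by rw [hi])
    rw [orderOf_eq_one_iff, he, inv_mul_eq_one] at this
    exact (mul_inv_eq_iff_eq_mul.1 this.symm)
  set C : Subgroup X := A ⊓ Subgroup.centralizer ({c} : Set X) with hC
  have hCmem : ∀ a, a ∈ C ↔ a ∈ A ∧ c * a = a * c := fun a => by
    rw [hC, Subgroup.mem_inf, Subgroup.mem_centralizer_singleton_iff]
    exact and_congr_right fun _ => eq_comm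
  have hCne : C ≠ A := fun h => hcA fun a ha => ((hCmem a).1 (h.symm ▸ ha)).2
  have hinvC : ∀ B : Subgroup X, B ≤ A → (∀ b ∈ B, c * b * c⁻¹ ∈ B) → ¬ B ≤ C → B = A :=
    fun B hBA hinv hB => by
      by_contra hne
      exact hB fun b hb => (hCmem b).2 ⟨hBA hb, hcnil B hBA hinv hne b hb⟩
  -- `C` is normal in `A`
  have hCnorm : ∀ a ∈ A, ∀ d ∈ C, a * d * a⁻¹ ∈ C := by
    have hlt : C.subgroupOf A < ⊤ := by
      rw [lt_top_iff_ne_top, Ne, Subgroup.subgroupOf_eq_top]
      exact fun h => hCne (le_antisymm inf_le_left h)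
    haveI := hnilQ
    have hgrow := Group.normalizerCondition_of_isNilpotent (G := A) _ hlt
    let B : Subgroup X := (Subgroup.normalizer (C.subgroupOf A : Set A)).map A.subtype
    have hB : B = A := by
      refine hinvC B (Subgroup.map_subtype_le _) ?_ ?_
      · rintro _ ⟨b, hb, rfl⟩
        refine ⟨⟨c * b * c⁻¹, hconj _ b.2⟩, ?_, rfl⟩
        refine Subgroup.mem_normalizer_fintype fun d hd => ?_
        rw [SetLike.mem_coe, Subgroup.mem_subgroupOf] at hd ⊢
        obtain ⟨hdA, hdc⟩ := (hCmem _).1 hd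
        have h1 : ((b * d * b⁻¹ : A) : X) ∈ C := (Subgroup.mem_normalizer_iff.1 hb d).1 hd
        simp only [Subgroup.coe_mul, Subgroup.coe_inv] at h1 ⊢
        obtain ⟨h1A, h1c⟩ := (hCmem _).1 h1
        have hd' : c⁻¹ * (d : X) * c = d := by rw [mul_assoc, ← hdc, inv_mul_cancel_left]
        have e : c * (b : X) * c⁻¹ * d * (c * (b : X) * c⁻¹)⁻¹ = (b : X) * d * (b : X)⁻¹ := by
          calc c * (b : X) * c⁻¹ * d * (c * (b : X) * c⁻¹)⁻¹
              = c * ((b : X) * (c⁻¹ * d * c) * (b : X)⁻¹) * c⁻¹ := by group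
            _ = (b : X) * d * (b : X)⁻¹ := by rw [hd', h1c, mul_inv_cancel_right]
        rw [e]; exact h1
      · intro hle
        obtain ⟨y, hy, hyC⟩ := SetLike.exists_of_lt hgrow
        exact hyC (Subgroup.mem_subgroupOf.2 (hle ⟨y, hy, rfl⟩))
    intro a ha d hd
    obtain ⟨b, hb, rfl⟩ : a ∈ B := hB.symm ▸ ha
    exact (Subgroup.mem_normalizer_iff.1 hb (⟨d, ((hCmem d).1 hd).1⟩ : A)).1 hd
  have hCcen : ∀ d ∈ C, ∀ a ∈ A, a * d = d * a := by
    let D : Subgroup X := A ⊓ Subgroup.centralizer (C : Set X)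
    have hDA : D = A := by
      refine hinvC D inf_le_left (fun b hb => ?_) fun hle => hcA fun a ha => htwist a ha ?_
      · refine ⟨hconj b hb.1, Subgroup.mem_centralizer_iff.2 fun d hd => ?_⟩
        have h1 := Subgroup.mem_centralizer_iff.1 hb.2 d hd
        have hdc : Commute c d := ((hCmem d).1 hd).2
        calc d * (c * b * c⁻¹) = c * (d * b) * c⁻¹ := by rw [← mul_assoc, ← mul_assoc, ← hdc.eq, mul_assoc c]
          _ = c * b * c⁻¹ * d := by rw [h1, mul_assoc _ c⁻¹, hdc.inv_left.eq]; group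
      · have hemem : a⁻¹ * (c * a * c⁻¹) ∈ D := by
          refine ⟨A.mul_mem (A.inv_mem ha) (hconj a ha), Subgroup.mem_centralizer_iff.2 fun d hd => ?_⟩
          obtain ⟨hdA, hdc⟩ := (hCmem d).1 hd
          obtain ⟨hd'A, hd'c⟩ := (hCmem _).1 (hCnorm a ha d hd)
          have hdi : Commute c⁻¹ d := (show Commute c d from hdc).inv_left
          have e : (c * a * c⁻¹) * d * (c * a * c⁻¹)⁻¹ = a * d * a⁻¹ := by
            calc (c * a * c⁻¹) * d * (c * a * c⁻¹)⁻¹ = c * a * (c⁻¹ * d * c) * a⁻¹ * c⁻¹ := by group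
              _ = c * (a * d * a⁻¹) * c⁻¹ := by rw [hdi.eq]; group
              _ = a * d * a⁻¹ := by rw [hd'c, mul_inv_cancel_right]
          calc d * (a⁻¹ * (c * a * c⁻¹)) = a⁻¹ * (a * d * a⁻¹) * (c * a * c⁻¹) := by group
            _ = a⁻¹ * ((c * a * c⁻¹) * d * (c * a * c⁻¹)⁻¹) * (c * a * c⁻¹) := by rw [e]
            _ = a⁻¹ * (c * a * c⁻¹) * d := by group
        exact ((hCmem _).1 (hle hemem)).2
    intro d hd a ha
    have : a ∈ D := hDA.symm ▸ ha
    exact (Subgroup.mem_centralizer_iff.1 this.2 d hd).symm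
  by_cases hab : ∀ a b : A, a * b = b * a
  · exact Or.inl hab
  have hCA : ∀ x : A, x ∈ Subgroup.center A ↔ (x : X) ∈ C := by
    intro x
    constructor
    · intro hx
      let Zc : Subgroup X := (Subgroup.center A).map A.subtype
      have hZ : Zc ≠ A := fun h => hab fun a b => by
        obtain ⟨a', ha', hae⟩ := (h.symm ▸ a.2 : (a : X) ∈ Zc)
        have : a' = a := Subtype.ext hae
        subst this
        exact (Subgroup.mem_center_iff.1 ha' b).symm
      refine (hCmem _).2 ⟨x.2, hcnil Zc (Subgroup.map_subtype_le _) ?_ hZ x ⟨x, hx, rfl⟩⟩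
      rintro _ ⟨b, hb, rfl⟩
      refine ⟨⟨c * b * c⁻¹, hconj _ b.2⟩, Subgroup.mem_center_iff.2 fun y => Subtype.ext ?_, rfl⟩
      have hy : c⁻¹ * y * c ∈ A := by simpa using hQn.conj_mem y y.2 c⁻¹
      have := congrArg Subtype.val (Subgroup.mem_center_iff.1 hb ⟨_, hy⟩)
      simp only [Subgroup.coe_mul] at this ⊢
      calc (y : X) * (c * b * c⁻¹) = c * ((c⁻¹ * y * c) * b) * c⁻¹ := by group
        _ = c * b * c⁻¹ * y := by rw [this]; group
    · exact fun hx => Subgroup.mem_center_iff.2 fun y => Subtype.ext (hCcen x hx y y.2)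
  have hfr : ∀ x : A, x ∈ frattini A → (x : X) ∈ C := by
    intro x hx
    let F : Subgroup X := (frattini A).map A.subtype
    have hF : F ≠ A := by
      intro h
      have h1 : frattini A = ⊤ := eq_top_iff.2 fun y _ => by
        obtain ⟨y', hy', hye⟩ := (h.symm ▸ y.2 : (y : X) ∈ F)
        rwa [show y' = y from Subtype.ext hye] at hy'
      have h2 : (⊥ : Subgroup A) = ⊤ := frattini_nongenerating (by rw [h1, bot_sup_eq])
      exact hP1 (by
        rw [eq_bot_iff]; intro y hy
        have : (⟨y, hy⟩ : A) ∈ (⊥ : Subgroup A) := h2 ▸ Subgroup.mem_top _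
        rw [Subgroup.mem_bot] at this ⊢
        exact congrArg Subtype.val this)
    refine (hCmem _).2 ⟨x.2, hcnil F (Subgroup.map_subtype_le _) ?_ hF x ⟨x, hx, rfl⟩⟩
    intro b hb
    have : F.Normal := ConjAct.normal_of_characteristic_of_normal
    exact this.conj_mem b hb c
  have hpow : ∀ x : A, x ^ p ∈ Subgroup.center A := fun x =>
    (hCA _).2 (hfr _ (CfsgLib.CoprimeAction.pow_mem_frattini Q₀.2 x))
  have hcomm : ∀ a b : A, ⁅a, b⁆ ∈ Subgroup.center A := fun a b => (hCA _).2 (hfr _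
    (CfsgLib.CoprimeAction.commutator_le_frattini' Q₀.2
      (Subgroup.commutator_mem_commutator (Subgroup.mem_top _) (Subgroup.mem_top _))))
  have hmul : ∀ a y y' : A, ⁅a, y * y'⁆ = ⁅a, y⁆ * ⁅a, y'⁆ := fun a y y' => by
    have h : y * ⁅a, y'⁆ = ⁅a, y'⁆ * y := Subgroup.mem_center_iff.1 (hcomm a y') y
    calc ⁅a, y * y'⁆ = ⁅a, y⁆ * (y * ⁅a, y'⁆ * y⁻¹) := by simp only [commutatorElement_def]; group
      _ = _ := by rw [h, mul_inv_cancel_right]
  let σ : A →* A :=
    { toFun := fun a => ⟨c * a * c⁻¹, hconj _ a.2⟩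
      map_one' := Subtype.ext (by simp)
      map_mul' := fun a b => Subtype.ext (by simp [mul_assoc]) }
  have hσinj : Function.Injective σ := fun a b h => Subtype.ext (by
    have := congrArg Subtype.val h
    simpa [σ] using this)
  have hσ : Function.Surjective σ := (Finite.injective_iff_bijective.1 hσinj).2
  have hσfix : ∀ d : A, d ∈ Subgroup.center A → σ d = d := fun d hd => Subtype.ext (by
    show c * (d : X) * c⁻¹ = d
    rw [((hCmem _).1 ((hCA d).1 hd)).2, mul_inv_cancel_right])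
  have hσC : ∀ a : A, σ a * a⁻¹ ∈ Subgroup.center A → a ∈ Subgroup.center A := by
    intro a ha
    have hc2 := Subgroup.mem_center_iff.1 ha a
    refine (hCA a).2 ((hCmem _).2 ⟨a.2, htwist a a.2 ?_⟩)
    have e : (a : X)⁻¹ * (c * a * c⁻¹) = ((σ a * a⁻¹ : A) : X) := by
      have : a⁻¹ * σ a = σ a * a⁻¹ := by
        calc a⁻¹ * σ a = a⁻¹ * ((σ a * a⁻¹) * a) := by group
          _ = σ a * a⁻¹ := by rw [← hc2, inv_mul_cancel_left]
      exact congrArg Subtype.val this
    rw [e]
    exact ((hCmem _).1 ((hCA _).1 ha)).2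
  have hBtop : ∀ B : Subgroup A, (∀ b ∈ B, σ b ∈ B) → ¬ B ≤ Subgroup.center A → B = ⊤ := by
    intro B hB hBC
    have : B.map A.subtype = A := hinvC _ (Subgroup.map_subtype_le _)
      (by rintro _ ⟨b, hb, rfl⟩; exact ⟨σ b, hB b hb, rfl⟩)
      (fun h => hBC fun b hb => (hCA b).2 (h ⟨b, hb, rfl⟩))
    exact Subgroup.map_injective A.subtype_injective
      (this.trans (by rw [← MonoidHom.range_eq_map, Subgroup.range_subtype]))
  have hsurj : ∀ x : A, x ∉ Subgroup.center A → ∀ z ∈ Subgroup.center A, ∃ y : A, ⁅x, y⁆ = z := by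
    intro x hx
    let φ : A →* A :=
      { toFun := fun y => ⁅x, y⁆
        map_one' := commutatorElement_one_right x
        map_mul' := fun y y' => hmul x y y' }
    let Y : Subgroup A := φ.range
    have hY : Y ≤ Subgroup.center A := by rintro _ ⟨y, rfl⟩; exact hcomm x y
    let B : Subgroup A :=
      { carrier := {a | ∀ y : A, ⁅a, y⁆ ∈ Y}
        one_mem' := fun y => by rw [commutatorElement_one_left]; exact one_mem _
        mul_mem' := fun {a b} ha hb y => by
          have h : a * ⁅b, y⁆ = ⁅b, y⁆ * a := Subgroup.mem_center_iff.1 (hcomm b y) a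
          have e : ⁅a * b, y⁆ = ⁅b, y⁆ * ⁅a, y⁆ := by
            calc ⁅a * b, y⁆ = (a * ⁅b, y⁆ * a⁻¹) * ⁅a, y⁆ := by simp only [commutatorElement_def]; group
              _ = _ := by rw [h, mul_inv_cancel_right]
          rw [e]; exact mul_mem (hb y) (ha y)
        inv_mem' := fun {a} ha y => by
          have e : ⁅a⁻¹, y⁆ = a⁻¹ * (⁅a, y⁆⁻¹ * a) := by simp only [commutatorElement_def]; group
          rw [e, ← Subgroup.mem_center_iff.1 (inv_mem (hcomm a y)) a, inv_mul_cancel_left]
          exact inv_mem (ha y) }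
    have hBt : B = ⊤ := by
      refine hBtop B (fun b hb y => ?_) fun h => hx (h fun y => ⟨y, rfl⟩)
      obtain ⟨y, rfl⟩ := hσ y
      rw [show ⁅σ b, σ y⁆ = σ ⁅b, y⁆ by simp [commutatorElement_def], hσfix _ (hY (hb y))]
      exact hb y
    have hall : ∀ a y : A, ⁅a, y⁆ ∈ Y := fun a => (show a ∈ B from hBt ▸ Subgroup.mem_top a)
    let B2 : Subgroup A :=
      { carrier := {u | ∃ b : A, u⁻¹ * (b⁻¹ * σ b) ∈ Y}
        one_mem' := ⟨1, by simp⟩
        mul_mem' := fun {u v} ⟨b, hb⟩ ⟨b', hb'⟩ => ⟨b * b', by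
          have hc1 := fun w => Subgroup.mem_center_iff.1 (hY hb) w
          have hc3 := fun w => Subgroup.mem_center_iff.1 (hY hb') w
          have e1 : b⁻¹ * σ b = u * (u⁻¹ * (b⁻¹ * σ b)) := by group
          have e2 : b'⁻¹ * σ b' = v * (v⁻¹ * (b'⁻¹ * σ b')) := by group
          have h := hall b'⁻¹ (b⁻¹ * σ b)
          have hc2 := fun w => Subgroup.mem_center_iff.1 (hY h) w
          have e : (b * b')⁻¹ * σ (b * b') = ⁅b'⁻¹, b⁻¹ * σ b⁆ * (b⁻¹ * σ b) * (b'⁻¹ * σ b') := by
            rw [map_mul, commutatorElement_def]; group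
          have e' : (u * v)⁻¹ * ((b * b')⁻¹ * σ (b * b')) =
              ⁅b'⁻¹, b⁻¹ * σ b⁆ * ((u⁻¹ * (b⁻¹ * σ b)) * (v⁻¹ * (b'⁻¹ * σ b'))) := by
            generalize hk : ⁅b'⁻¹, b⁻¹ * σ b⁆ = k at e hc2 ⊢
            generalize hm : u⁻¹ * (b⁻¹ * σ b) = m at hc1 e1
            generalize hn : v⁻¹ * (b'⁻¹ * σ b') = n at hc3 e2
            rw [e, e1, e2]
            calc (u * v)⁻¹ * (k * (u * m) * (v * n)) = (u * v)⁻¹ * (k * u) * (m * v) * n := by group
              _ = (u * v)⁻¹ * (u * k) * (v * m) * n := by rw [hc2 u, ← hc1 v]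
              _ = v⁻¹ * (k * v) * m * n := by group
              _ = k * (m * n) := by rw [← hc2 v]; group
          rw [e']
          exact mul_mem h (mul_mem hb hb')⟩
        inv_mem' := fun {u} ⟨b, hb⟩ => ⟨b⁻¹, by
          have hc1 := fun w => Subgroup.mem_center_iff.1 (hY hb) w
          have h := hall b (σ b⁻¹ * b)
          have hc2 := fun w => Subgroup.mem_center_iff.1 (hY h) w
          have e : u⁻¹⁻¹ * (b⁻¹⁻¹ * σ b⁻¹) = ⁅b, σ b⁻¹ * b⁆ * (u⁻¹ * (b⁻¹ * σ b))⁻¹ := by
            generalize hk : ⁅b, σ b⁻¹ * b⁆ = k at hc2 ⊢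
            have e0 : b⁻¹⁻¹ * σ b⁻¹ = k * (b⁻¹ * σ b)⁻¹ := by
              rw [← hk, commutatorElement_def, map_inv]; group
            generalize hm : u⁻¹ * (b⁻¹ * σ b) = m at hc1 ⊢
            have e1 : b⁻¹ * σ b = u * m := by rw [← hm]; group
            rw [e0, e1]
            calc u⁻¹⁻¹ * (k * (u * m)⁻¹) = (u * k) * m⁻¹ * u⁻¹ := by group
              _ = k * (u * m⁻¹) * u⁻¹ := by rw [hc2 u]; group
              _ = k * m⁻¹ := by
                rw [show u * m⁻¹ = m⁻¹ * u from (Commute.inv_right (hc1 u)).eq]; group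
          rw [e]; exact mul_mem h (inv_mem hb)⟩ }
    have hB2 : B2 = ⊤ := by
      refine hBtop B2 (fun u ⟨b, hb⟩ => ⟨σ b, ?_⟩) fun h => ?_
      · rw [← map_inv σ, ← map_inv σ, ← map_mul, ← map_mul, hσfix _ (hY hb)]
        exact hb
      · apply hab
        intro a b
        have ha : a ∈ Subgroup.center A := by
          have h1 : a⁻¹ * σ a ∈ Subgroup.center A := h ⟨a, by rw [inv_mul_cancel]; exact one_mem _⟩
          refine hσC a ?_
          have h2 := Subgroup.mem_center_iff.1 h1 a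
          rwa [show σ a * a⁻¹ = a⁻¹ * σ a by
            calc σ a * a⁻¹ = a * (a⁻¹ * σ a) * a⁻¹ := by group
              _ = a⁻¹ * σ a := by rw [h2, mul_inv_cancel_right]]
        exact (Subgroup.mem_center_iff.1 ha b).symm
    intro z hz
    obtain ⟨b, hb⟩ : z ∈ B2 := hB2 ▸ Subgroup.mem_top z
    have h1 : b⁻¹ * σ b ∈ Subgroup.center A := by
      have := mul_mem hz (hY hb); simpa using this
    have h2 : b ∈ Subgroup.center A := hσC b (by
      have h3 := Subgroup.mem_center_iff.1 h1 b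
      rwa [show σ b * b⁻¹ = b⁻¹ * σ b by
        calc σ b * b⁻¹ = b * (b⁻¹ * σ b) * b⁻¹ := by group
          _ = b⁻¹ * σ b := by rw [h3, mul_inv_cancel_right]])
    have h4 : z⁻¹ ∈ Y := by simpa [hσfix b h2] using hb
    obtain ⟨y, hy⟩ := inv_mem h4
    exact ⟨y, by rw [inv_inv] at hy; exact hy⟩
  refine Or.inr ⟨hpow, hcomm, hsurj, fun hidx => ?_⟩
  -- the action on the central factor group
  have hcr : ∀ a : A, c ^ p₀ * (a : X) = (a : X) * c ^ p₀ := by
    intro a
    by_cases hne' : Subgroup.zpowers (c ^ p₀) ⊔ A = ⊤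
    · exfalso
      have hc1 : c ∈ (A : Set X) * (Subgroup.zpowers (c ^ p₀) : Set X) := by
        rw [← Subgroup.normal_mul, sup_comm, hne']; trivial
      obtain ⟨u, hu, v, hv, huv⟩ := hc1
      have hv' : v ∈ Subgroup.zpowers c :=
        Subgroup.zpowers_le.2 (Subgroup.pow_mem _ (Subgroup.mem_zpowers c) _) hv
      have hu' : u ∈ Subgroup.zpowers c := by
        have := Subgroup.mul_mem _ (Subgroup.mem_zpowers c) (inv_mem hv')
        rwa [← show u = c * v⁻¹ by simp only at huv; rw [← huv]; group] at this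
      simp only [hdisj u hu hu', one_mul] at huv
      subst huv
      obtain ⟨i, hi⟩ := Subgroup.mem_zpowers_iff.1 hv
      have h1 : (orderOf v : ℤ) ∣ (p₀ : ℤ) * i - 1 := by
        rw [orderOf_dvd_iff_zpow_eq_one, zpow_sub, zpow_mul, zpow_natCast, hi, zpow_one, mul_inv_cancel]
      obtain ⟨j, hj⟩ := IsPGroup.iff_orderOf.1 P₀.2 ⟨v, hcP⟩
      rw [Subgroup.orderOf_mk] at hj
      rcases j with _ | j
      · rw [pow_zero, orderOf_eq_one_iff] at hj
        exact hcA fun a _ => by rw [hj, one_mul, mul_one]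
      · have h2 : (p₀ : ℤ) ∣ (p₀ : ℤ) * i - 1 := (Int.natCast_dvd_natCast.2 (hj ▸ dvd_pow_self p₀ (Nat.succ_ne_zero j))).trans h1
        have h3 : (p₀ : ℤ) ∣ 1 := by simpa using dvd_sub (dvd_mul_right (p₀ : ℤ) i) h2
        exact hp₀.not_dvd_one (Int.natCast_dvd_natCast.1 (by exact_mod_cast h3))
    · haveI := hX.2 _ hne'
      exact (CfsgLib.Hall.commute_of_nilpotent_le (Subgroup.zpowers (c ^ p₀) ⊔ A) hpP.symm le_sup_left
        le_sup_right (P₀.2.to_le ((Subgroup.zpowers_le.2 (Subgroup.pow_mem _ (Subgroup.mem_zpowers c) p₀)).trans hcz.ge))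
        Q₀.2 _ (Subgroup.mem_zpowers _) a a.2).eq
  haveI := Fact.mk hp₀
  let τ : (A ⧸ Subgroup.center A) → (A ⧸ Subgroup.center A) :=
    QuotientGroup.map _ (Subgroup.center A) σ fun d hd => by
      rw [Subgroup.mem_comap, hσfix d hd]; exact hd
  have hτinj : Function.Injective τ := by
    intro u v huv
    obtain ⟨u, rfl⟩ := QuotientGroup.mk'_surjective _ u
    obtain ⟨v, rfl⟩ := QuotientGroup.mk'_surjective _ v
    have h : (σ u)⁻¹ * σ v ∈ Subgroup.center A := QuotientGroup.eq.1 huv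
    rw [← map_inv, ← map_mul] at h
    refine QuotientGroup.eq.2 ?_
    rwa [← hσinj (hσfix _ h)]
  have hτr : ∀ u, τ^[p₀] u = u := by
    intro u
    obtain ⟨u, rfl⟩ := QuotientGroup.mk'_surjective _ u
    have h1 : ∀ i : ℕ, τ^[i] (QuotientGroup.mk' _ u) = QuotientGroup.mk' _ (σ^[i] u) := by
      intro i
      induction i with
      | zero => rfl
      | succ i ih => rw [Function.iterate_succ_apply', Function.iterate_succ_apply', ih]; rfl
    have h2 : ∀ i : ℕ, ((σ^[i] u : A) : X) = c ^ i * u * (c ^ i)⁻¹ := by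
      intro i
      induction i with
      | zero => simp
      | succ i ih =>
        rw [Function.iterate_succ_apply']
        show c * ((σ^[i] u : A) : X) * c⁻¹ = _
        rw [ih, pow_succ']; group
    rw [h1, show σ^[p₀] u = u from Subtype.ext (by rw [h2, hcr u, mul_inv_cancel_right])]
  let π : Equiv.Perm (A ⧸ Subgroup.center A) := Equiv.ofBijective τ (Finite.injective_iff_bijective.1 hτinj)
  have hπr : π ^ p₀ = 1 := Equiv.ext fun u => by rw [Equiv.Perm.coe_pow]; exact hτr u
  let Γ : Subgroup (Equiv.Perm (A ⧸ Subgroup.center A)) := Subgroup.zpowers π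
  have hΓ : IsPGroup p₀ Γ := by
    intro g
    refine ⟨1, Subtype.ext ?_⟩
    obtain ⟨i, hi⟩ := Subgroup.mem_zpowers_iff.1 g.2
    show (g : Equiv.Perm (↥A ⧸ Subgroup.center ↥A)) ^ p₀ ^ 1 = 1
    rw [pow_one, ← hi, ← zpow_natCast, ← zpow_mul, mul_comm, zpow_mul, zpow_natCast, hπr, one_zpow]
  have hfixτ : ∀ u, τ u = u → u = 1 := by
    intro u hu
    obtain ⟨u, rfl⟩ := QuotientGroup.mk'_surjective _ u
    have h : (σ u)⁻¹ * u ∈ Subgroup.center A := QuotientGroup.eq.1 hu
    refine (QuotientGroup.eq_one_iff _).2 (hσC u ?_)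
    have h2 := Subgroup.mem_center_iff.1 (inv_mem h) u
    rw [show σ u * u⁻¹ = u * (((σ u)⁻¹ * u)⁻¹) * u⁻¹ by group, h2, mul_inv_cancel_right]
    exact inv_mem h
  have hmod : (Subgroup.center A).index ≡ 1 [MOD p₀] := by
    have h := hΓ.card_modEq_card_fixedPoints (A ⧸ Subgroup.center A)
    have h1 : Nat.card (MulAction.fixedPoints Γ (A ⧸ Subgroup.center A)) = 1 := by
      haveI : Subsingleton (MulAction.fixedPoints Γ (A ⧸ Subgroup.center A)) := ⟨fun u v => Subtype.ext (by
        rw [hfixτ u (u.2 ⟨π, Subgroup.mem_zpowers π⟩), hfixτ v (v.2 ⟨π, Subgroup.mem_zpowers π⟩)])⟩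
      haveI : Nonempty (MulAction.fixedPoints Γ (A ⧸ Subgroup.center A)) := ⟨⟨1, fun g => by
        obtain ⟨i, hi⟩ := Subgroup.mem_zpowers_iff.1 g.2
        show (g : Equiv.Perm (↥A ⧸ Subgroup.center ↥A)) 1 = 1
        rw [← hi]
        exact Equiv.Perm.zpow_apply_eq_self_of_apply_eq_self (show π 1 = 1 from map_one (QuotientGroup.map _
          (Subgroup.center A) σ fun d hd => by rw [Subgroup.mem_comap, hσfix d hd]; exact hd)) i⟩⟩
      exact Nat.card_of_subsingleton (Classical.arbitrary _)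
    rw [h1] at h
    rwa [Subgroup.index_eq_card]
  have hr2 : p₀ ≠ 2 := by
    intro hr2
    apply hab
    intro a b
    have ha : a ∈ Subgroup.center A := by
      by_contra ha
      have hσ2 : σ (σ a) = a := Subtype.ext (by
        have h := hcr a
        rw [hr2] at h
        show c * (c * (a : X) * c⁻¹) * c⁻¹ = a
        rw [show c * (c * (a : X) * c⁻¹) * c⁻¹ = c ^ 2 * a * (c ^ 2)⁻¹ by rw [pow_two]; group, h,
          mul_inv_cancel_right])
      have hw : a * σ a ∈ Subgroup.center A := hσC _ (by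
        rw [map_mul, hσ2]
        have h := hcomm (σ a) a
        rwa [show σ a * a * (a * σ a)⁻¹ = ⁅σ a, a⁆ by rw [commutatorElement_def]; group])
      have htop := hBtop (Subgroup.zpowers a ⊔ Subgroup.center A) (fun u hu => by
        have hle : Subgroup.zpowers a ⊔ Subgroup.center A ≤
            (Subgroup.zpowers a ⊔ Subgroup.center A).comap σ := by
          refine sup_le (Subgroup.zpowers_le.2 ?_) fun d hd => ?_
          · rw [Subgroup.mem_comap, show σ a = a⁻¹ * (a * σ a) by group]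
            exact mul_mem (inv_mem (Subgroup.mem_sup_left (Subgroup.mem_zpowers a))) (Subgroup.mem_sup_right hw)
          · rw [Subgroup.mem_comap, hσfix d hd]; exact Subgroup.mem_sup_right hd
        exact hle hu) (fun h => ha (h (Subgroup.mem_sup_left (Subgroup.mem_zpowers a))))
      refine ha (Subgroup.mem_center_iff.2 fun y => ?_)
      have hle : Subgroup.zpowers a ⊔ Subgroup.center A ≤ Subgroup.centralizer ({a} : Set A) := by
        refine sup_le (Subgroup.zpowers_le.2 (Subgroup.mem_centralizer_singleton_iff.2 rfl)) fun d hd => ?_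
        exact Subgroup.mem_centralizer_singleton_iff.2 (Subgroup.mem_center_iff.1 hd a).symm
      exact Subgroup.mem_centralizer_singleton_iff.1 (hle (htop.symm ▸ Subgroup.mem_top y))
    exact (Subgroup.mem_center_iff.1 ha b).symm
  obtain ⟨k, hk⟩ : ∃ k, (Subgroup.center A).index = p ^ k := Q₀.2.index _
  have hk2 : k ≤ 2 := (Nat.pow_le_pow_iff_right hp.out.one_lt).1 (hk ▸ hidx)
  have hk1 : 1 ≤ k := by
    rcases k with _ | k
    · exfalso
      refine hab fun a b => ?_
      have : a ∈ Subgroup.center A := by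
        have ht : Subgroup.center A = ⊤ := Subgroup.index_eq_one.1 (by rw [hk, pow_zero])
        rw [ht]; trivial
      exact (Subgroup.mem_center_iff.1 this b).symm
    · omega
  have hdvd : p₀ ∣ p ^ k - 1 := (Nat.modEq_iff_dvd' (Nat.one_le_pow _ _ hp.out.pos)).1 (hk ▸ hmod).symm
  refine ⟨fun hp3 => ?_, fun hp2 x hx => ?_⟩
  · subst hp3
    have h8 : p₀ ∣ 2 ^ 3 := by
      interval_cases k
      · exact hdvd.trans (by norm_num)
      · exact hdvd.trans (by norm_num)
    exact hr2 ((Nat.prime_dvd_prime_iff_eq hp₀ Nat.prime_two).1 (hp₀.dvd_of_dvd_pow h8))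
  · subst hp2
    have hk' : k = 2 ∧ p₀ = 3 := by
      interval_cases k
      · exact absurd (Nat.dvd_one.1 hdvd) hp₀.ne_one
      · exact ⟨rfl, (Nat.prime_dvd_prime_iff_eq hp₀ Nat.prime_three).1 hdvd⟩
    obtain ⟨hk', hr3⟩ := hk'
    subst hk'
    by_contra hxc
    apply hab
    have hz2 : ∀ d ∈ Subgroup.center A, d ^ 2 = 1 := by
      intro d hd
      obtain ⟨y, rfl⟩ := hsurj x hxc d hd
      rw [pow_two, ← hmul]
      have h1 := Subgroup.mem_center_iff.1 (hpow y) x
      rw [pow_two] at h1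
      exact commutatorElement_eq_one_iff_mul_comm.2 h1
    have hsq : ∀ a : A, a ^ 2 = 1 := by
      intro a
      by_cases ha : a ∈ Subgroup.center A
      · exact hz2 a ha
      set q := QuotientGroup.mk' (Subgroup.center A) with hq
      set u : A ⧸ Subgroup.center A := q x with hu
      have hu1 : u ≠ 1 := fun h => hxc ((QuotientGroup.eq_one_iff _).1 h)
      have hτu : τ u ≠ u := fun h => hu1 (hfixτ _ h)
      have hτττ : τ (τ (τ u)) = u := by
        have := hτr u
        rw [hr3] at this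
        exact this
      have hτ2 : τ (τ u) ≠ u := fun h => hτu (by
        have h1 := congrArg τ h
        rw [hτττ] at h1
        exact h1.symm)
      have hτ0 : ∀ v, v ≠ 1 → τ v ≠ 1 := fun v hv h => hv (hτinj (h.trans (map_one (QuotientGroup.map _
        (Subgroup.center A) σ fun d hd => by rw [Subgroup.mem_comap, hσfix d hd]; exact hd)).symm))
      have hcard4 : Nat.card (A ⧸ Subgroup.center A) = 4 := by
        rw [← Subgroup.index_eq_card, hk]; norm_num
      have hcases : q a = u ∨ q a = τ u ∨ q a = τ (τ u) := by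
        by_contra hcon
        push Not at hcon
        obtain ⟨h1, h2, h3⟩ := hcon
        have ha1 : q a ≠ 1 := fun h => ha ((QuotientGroup.eq_one_iff _).1 h)
        have hfive : ({1, u, τ u, τ (τ u), q a} : Finset (A ⧸ Subgroup.center A)).card = 5 := by
          rw [Finset.card_insert_of_notMem, Finset.card_insert_of_notMem, Finset.card_insert_of_notMem,
            Finset.card_insert_of_notMem, Finset.card_singleton]
          · simp only [Finset.mem_singleton]; exact fun h => h3 h.symm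
          · simp only [Finset.mem_insert, Finset.mem_singleton]
            exact fun h => h.elim (fun h => hτu (hτinj h).symm) fun h => h2 h.symm
          · simp only [Finset.mem_insert, Finset.mem_singleton]
            exact fun h => h.elim (fun h => hτu h.symm) fun h => h.elim (fun h => hτ2 h.symm) fun h => h1 h.symm
          · simp only [Finset.mem_insert, Finset.mem_singleton]
            exact fun h => h.elim (fun h => hu1 h.symm) fun h => h.elim (fun h => hτ0 u hu1 h.symm)
              fun h => h.elim (fun h => hτ0 _ (hτ0 u hu1) h.symm) fun h => ha1 h.symm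
        haveI := Fintype.ofFinite (A ⧸ Subgroup.center A)
        have := Finset.card_le_univ ({1, u, τ u, τ (τ u), q a} : Finset (A ⧸ Subgroup.center A))
        rw [Nat.card_eq_fintype_card] at hcard4
        omega
      have key : ∀ b : A, b ^ 2 = 1 → q a = q b → a ^ 2 = 1 := by
        intro b hb h
        have hd : b⁻¹ * a ∈ Subgroup.center A := QuotientGroup.eq.1 h.symm
        rw [show a = b * (b⁻¹ * a) by group, (show Commute b (b⁻¹ * a) from Subgroup.mem_center_iff.1 hd b).mul_pow,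
          hb, hz2 _ hd, one_mul]
      rcases hcases with h | h | h
      · exact key x hx h
      · exact key (σ x) (by rw [← map_pow, hx, map_one]) h
      · exact key (σ (σ x)) (by rw [← map_pow, ← map_pow, hx, map_one, map_one]) h
    intro a b
    have h := hsq (a * b)
    rw [pow_two] at h
    have ha := hsq a
    have hb := hsq b
    rw [pow_two] at ha hb
    calc a * b = (a * b) * ((b * a) * (b * a)) := by
          rw [show (b * a) * (b * a) = 1 by rw [← pow_two]; exact hsq _, mul_one]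
      _ = a * (b * b) * a * (b * a) := by group
      _ = b * a := by rw [hb, mul_one, ha, one_mul]

end CfsgLib.SchmidtPLength
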