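import Cfsg.Agent.SchmidtPLength.Core
import Cfsg.Agent.SchmidtPLength.Schmidt
import Cfsg.Agent.PLengthComm.Basic

/-!
A `p`-solvable group whose Sylow subgroup is that of a minimal non-nilpotent group has `p`-length one.
-/

set_option autoImplicit false
set_option linter.style.haveILetI false

namespace CfsgLib.SchmidtPLength

open scoped commutatorElement Pointwise

universe u

variable {G : Type u} [Group G] [Finite G] {p : ℕ} [hp : Fact p.Prime]

theorem sylow_le_pCore (hs : Cfsg.IsPSolvable p G) (h0 : Cfsg.pPrimeCore p G = ⊥) (Q : Sylow p G)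
    (hg : Good p (Q : Subgroup G)) : (Q : Subgroup G) ≤ Cfsg.pCore p G := by
  classical
  set U := Cfsg.pCore p G with hU
  haveI hUn : U.Normal := Cfsg.pCore_normal p G
  have hHH := CfsgLib.PCore.hall_higman hs h0
  have hUQ : U ≤ (Q : Subgroup G) := CfsgLib.PCore.pCore_le_sylow Q
  have hUp : IsPGroup p U := CfsgLib.PCore.isPGroup_pCore p G
  rcases hg with hab | ⟨hpow, hcomm, hsurj, hsmall⟩
  · exact fun a ha => hHH (Subgroup.mem_centralizer_iff.2 fun u hu =>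
      congrArg Subtype.val (hab ⟨u, hUQ hu⟩ ⟨a, ha⟩))
  by_contra hQU
  set A : Subgroup G := (Q : Subgroup G) with hA
  set Zg : Subgroup G := (Subgroup.center A).map A.subtype with hZg
  have hZmem : ∀ a : A, a ∈ Subgroup.center A ↔ (a : G) ∈ Zg := fun a =>
    ⟨fun h => ⟨a, h, rfl⟩, fun ⟨b, hb, hba⟩ => by rwa [← Subtype.ext hba]⟩
  have hZA : Zg ≤ A := Subgroup.map_subtype_le _
  have hZcen : ∀ z ∈ Zg, ∀ a ∈ A, a * z = z * a := by
    rintro _ ⟨z, hz, rfl⟩ a ha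
    exact congrArg Subtype.val (Subgroup.mem_center_iff.1 hz ⟨a, ha⟩)
  have hZU : Zg ≤ U := fun z hz => hHH (Subgroup.mem_centralizer_iff.2 fun u hu => hZcen z hz u (hUQ hu))
  have hpowG : ∀ a ∈ A, a ^ p ∈ Zg := fun a ha => (hZmem (⟨a, ha⟩ ^ p)).1 (hpow _)
  have hcommG : ∀ a ∈ A, ∀ b ∈ A, a * b * a⁻¹ * b⁻¹ ∈ Zg := fun a ha b hb => by
    have := (hZmem ⁅(⟨a, ha⟩ : A), ⟨b, hb⟩⁆).1 (hcomm _ _)
    simpa [commutatorElement_def] using this
  set Y := CfsgLib.HallHigmanB.coreFrattini p G with hY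
  have hYZ : Y ≤ Zg := by
    haveI : (Zg.subgroupOf U).Normal := ⟨fun n hn g => by
      rw [Subgroup.mem_subgroupOf] at hn ⊢
      simp only [Subgroup.coe_mul, Subgroup.coe_inv]
      rw [hZcen _ hn g (hUQ g.2), mul_inv_cancel_right]
      exact hn⟩
    have hle : frattini U ≤ Zg.subgroupOf U := by
      refine CfsgLib.CoprimeAction.frattini_le_of_elementary (p := p) _ ?_ fun u => ?_
      · refine Subgroup.commutator_le.2 fun a _ b _ => ?_
        rw [Subgroup.mem_subgroupOf]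
        simpa [commutatorElement_def] using hcommG a (hUQ a.2) b (hUQ b.2)
      · rw [Subgroup.mem_subgroupOf]
        exact hpowG u (hUQ u.2)
    rintro _ ⟨u, hu, rfl⟩
    exact hle hu
  have hYU : Y ≤ U := hYZ.trans hZU
  set π := QuotientGroup.mk' Y with hπ
  set V := U.map π
  set P := A.map π
  set Z := Zg.map π
  have hlift : ∀ {K : Subgroup G}, Y ≤ K → ∀ a, π a ∈ K.map π → a ∈ K := by
    rintro K hK a ⟨b, hb, hba⟩
    have h : b⁻¹ * a ∈ Y := QuotientGroup.eq.1 hba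
    simpa using K.mul_mem hb (hK h)
  have hcent : Subgroup.centralizer (V : Set (G ⧸ Y)) ≤ V := by
    intro y hy
    obtain ⟨a, rfl⟩ := QuotientGroup.mk'_surjective Y y
    exact Subgroup.mem_map_of_mem π (CfsgLib.HallHigmanB.centralizer_topLayer hs h0 hy)
  have S : Setup p V P Z := by
    refine ⟨hUn.map π (QuotientGroup.mk'_surjective Y), ?_, ?_, hcent, fun N hN hNp => ?_,
      CfsgLib.PCore.isPSolvable_quotient hs Y, fun L hL => ?_, Q.2.map π, Subgroup.map_mono hZU,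
      Subgroup.map_mono hZA, ?_, ?_, ?_, ?_, ?_, fun h => hQU fun a ha =>
        hlift hYU a (h (Subgroup.mem_map_of_mem π ha))⟩
    · rintro _ ⟨a, ha, rfl⟩ _ ⟨b, hb, rfl⟩
      rw [← map_mul, ← map_mul]
      refine QuotientGroup.eq.2 ?_
      refine ⟨((⟨a, ha⟩ : U) * ⟨b, hb⟩)⁻¹ * (⟨b, hb⟩ * ⟨a, ha⟩), ?_, rfl⟩
      refine CfsgLib.CoprimeAction.commutator_le_frattini' hUp ?_
      rw [show ((⟨a, ha⟩ : U) * ⟨b, hb⟩)⁻¹ * (⟨b, hb⟩ * ⟨a, ha⟩) = ⁅(⟨b, hb⟩ : U)⁻¹, (⟨a, ha⟩ : U)⁻¹⁆ by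
        rw [commutatorElement_def]; group]
      exact Subgroup.commutator_mem_commutator (Subgroup.mem_top _) (Subgroup.mem_top _)
    · rintro _ ⟨a, ha, rfl⟩
      rw [← map_pow]
      exact (QuotientGroup.eq_one_iff _).2
        ⟨(⟨a, ha⟩ : U) ^ p, CfsgLib.CoprimeAction.pow_mem_frattini hUp _, rfl⟩
    · have h1 : N.comap π ≤ U := CfsgLib.PCore.le_pCore (hN.comap π)
        (hNp.comap_of_ker_isPGroup π (by rw [QuotientGroup.ker_mk']; exact hUp.to_le hYU))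
      intro y hy
      obtain ⟨a, rfl⟩ := QuotientGroup.mk'_surjective Y y
      exact Subgroup.mem_map_of_mem π (h1 hy)
    · obtain ⟨S, hS⟩ := hL.exists_le_sylow
      obtain ⟨g, hg⟩ := MulAction.exists_smul_eq (G ⧸ Y) S
        (Sylow.mapSurjective (QuotientGroup.mk'_surjective Y) Q)
      refine ⟨g, fun l hl => ?_⟩
      have h1 : g * l * g⁻¹ ∈ ((g • S : Sylow p (G ⧸ Y)) : Subgroup (G ⧸ Y)) := by
        rw [Sylow.coe_subgroup_smul]
        exact ⟨l, hS hl, rfl⟩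
      rw [hg, Sylow.coe_mapSurjective] at h1
      exact h1
    · rintro _ ⟨z, hz, rfl⟩ _ ⟨e, he, rfl⟩
      rw [← map_mul, ← map_mul, hZcen z hz e he]
    · rintro _ ⟨e, he, rfl⟩ _ ⟨v, hv, rfl⟩
      exact ⟨_, hcommG e he v (hUQ hv), by simp⟩
    · rintro _ ⟨a, ha, rfl⟩ _ ⟨b, hb, rfl⟩
      exact ⟨_, hZU (hcommG a ha b hb), by simp⟩
    · rintro _ ⟨a, ha, rfl⟩
      exact ⟨_, hZU (hpowG a ha), map_pow π a p⟩
    · rintro _ ⟨s, hs, rfl⟩ hsZ _ ⟨_, ⟨z, hz, rfl⟩, rfl⟩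
      have hsc : (⟨s, hUQ hs⟩ : A) ∉ Subgroup.center A := fun h =>
        hsZ (Subgroup.mem_map_of_mem π ((hZmem _).1 h))
      obtain ⟨y, hy⟩ := hsurj ⟨s, hUQ hs⟩ hsc z⁻¹ (inv_mem hz)
      refine ⟨π y, Subgroup.mem_map_of_mem π y.2, ?_⟩
      rw [← inv_inv z, ← hy]
      simp [commutatorElement_def, mul_assoc]
  have hp3 := S.le_three
  have hZp := S.card_center
  obtain ⟨x', hx', hx'V, hPx⟩ := S.cyclic_top
  obtain ⟨x, hxA, rfl⟩ := hx'
  haveI := S.normal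
  -- a generating element of `U` modulo the centre
  obtain ⟨u₀, hu₀, hu₀Z⟩ : ∃ u ∈ U, u ∉ Zg := by
    by_contra hcon
    push Not at hcon
    exact hQU fun a ha => hHH (Subgroup.mem_centralizer_iff.2 fun u hu => (hZcen u (hcon u hu) a ha).symm)
  set c := x * u₀ * x⁻¹ * u₀⁻¹ with hc
  have hcZ : c ∈ Zg := hcommG x hxA u₀ (hUQ hu₀)
  -- elements of `V` commuting with `x` are in `Z`
  have hfix : ∀ u ∈ U, π x * π u = π u * π x → u ∈ Zg := by
    intro u hu hxu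
    by_contra huZ
    have hsZ : π u ∉ Z := fun h => huZ (hlift hYZ u h)
    obtain ⟨z₀, hz₀, hz₀1⟩ : ∃ z ∈ Z, z ≠ (1 : G ⧸ Y) := by
      rcases Z.bot_or_exists_ne_one with h | h
      · rw [h, Subgroup.card_bot] at hZp; exact absurd hZp.symm hp.out.ne_one
      · exact h
    obtain ⟨e, he, hez⟩ := S.surj _ (Subgroup.mem_map_of_mem π hu) hsZ z₀ hz₀
    have hle : V ⊔ Subgroup.zpowers (π x) ≤ Subgroup.centralizer ({π u} : Set (G ⧸ Y)) :=
      sup_le (fun v hv => Subgroup.mem_centralizer_singleton_iff.2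
          (S.comm v hv _ (Subgroup.mem_map_of_mem π hu)))
        (Subgroup.zpowers_le.2 (Subgroup.mem_centralizer_singleton_iff.2 hxu))
    have h := Subgroup.mem_centralizer_singleton_iff.1 (hle (hPx he))
    exact hz₀1 (by rw [← hez, h, mul_inv_cancel_right, mul_inv_cancel])
  have hc1 : π c ≠ 1 := fun h => hu₀Z (hfix u₀ hu₀ (by
    rw [hc, map_mul, map_mul, map_mul, map_inv, map_inv] at h
    exact mul_inv_eq_iff_eq_mul.1 (mul_inv_eq_one.1 h)))
  have hgenZ := zpowers_eq_of_card_prime hZp (Subgroup.mem_map_of_mem π hcZ : π c ∈ Z) hc1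
  -- every element of `A` is `z u₀ⁱ xʲ`
  have hform : ∀ a ∈ A, ∃ z ∈ Zg, ∃ i j : ℕ, a = z * u₀ ^ i * x ^ j := by
    intro a ha
    have h1 : π a ∈ V ⊔ Subgroup.zpowers (π x) := hPx (Subgroup.mem_map_of_mem π ha)
    obtain ⟨v, hv, t, ht, hvt⟩ := Subgroup.mem_sup_of_normal_left.1 h1
    obtain ⟨u, hu, rfl⟩ := hv
    obtain ⟨j, rfl⟩ := (isOfFinOrder_of_finite (π x)).mem_powers_iff_mem_zpowers.2 ht
    have hu' : a * (x ^ j)⁻¹ ∈ U := hlift hYU _ ⟨u, hu, by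
      rw [map_mul, map_inv, map_pow]; simp only at hvt; rw [← hvt, mul_inv_cancel_right]⟩
    set w := a * (x ^ j)⁻¹ with hw
    have h2 : π (x * w * x⁻¹ * w⁻¹) ∈ Subgroup.zpowers (π c) := by
      rw [hgenZ]; exact Subgroup.mem_map_of_mem π (hcommG x hxA w (hUQ hu'))
    obtain ⟨i, hi⟩ := (isOfFinOrder_of_finite (π c)).mem_powers_iff_mem_zpowers.2 h2
    simp only at hi
    refine ⟨w * (u₀ ^ i)⁻¹, ?_, i, j, by rw [hw]; group⟩
    refine hfix _ (U.mul_mem hu' (U.inv_mem (U.pow_mem hu₀ i))) ?_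
    have e1 : π x * π w * (π x)⁻¹ = π c ^ i * π w := by
      rw [hi]; simp only [map_mul, map_inv]; group
    have e2 : π x * π u₀ ^ i * (π x)⁻¹ = π c ^ i * π u₀ ^ i := by
      have hcu : Commute (π c) (π u₀) :=
        S.comm _ (S.zle (Subgroup.mem_map_of_mem π hcZ)) _ (Subgroup.mem_map_of_mem π hu₀)
      rw [← hcu.mul_pow, ← conj_pow]
      congr 1
      rw [hc]; simp only [map_mul, map_inv]; group
    have e3 : π x * π (w * (u₀ ^ i)⁻¹) * (π x)⁻¹ = π (w * (u₀ ^ i)⁻¹) := by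
      rw [map_mul, map_inv, map_pow,
        show π x * (π w * (π u₀ ^ i)⁻¹) * (π x)⁻¹ =
          (π x * π w * (π x)⁻¹) * (π x * π u₀ ^ i * (π x)⁻¹)⁻¹ by group, e1, e2]
      have hcomm' : Commute (π c ^ i) (π w * (π u₀ ^ i)⁻¹) :=
        S.comm _ (V.pow_mem (S.zle (Subgroup.mem_map_of_mem π hcZ)) i) _
          (V.mul_mem (Subgroup.mem_map_of_mem π hu') (V.inv_mem (V.pow_mem (Subgroup.mem_map_of_mem π hu₀) i)))
      rw [mul_inv_rev, mul_assoc, ← mul_assoc (π w), ← mul_assoc, hcomm'.eq, mul_inv_cancel_right]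
    exact mul_inv_eq_iff_eq_mul.1 e3
  -- the centre has index at most `p ^ 2`
  have hidx : (Subgroup.center A).index ≤ p ^ 2 := by
    let f : Fin p × Fin p → A ⧸ Subgroup.center A := fun ij =>
      QuotientGroup.mk' _ ((⟨u₀, hUQ hu₀⟩ : A) ^ (ij.1 : ℕ) * (⟨x, hxA⟩ : A) ^ (ij.2 : ℕ))
    have hf : Function.Surjective f := by
      intro y
      obtain ⟨a, rfl⟩ := QuotientGroup.mk'_surjective _ y
      obtain ⟨z, hz, i, j, haz⟩ := hform a a.2
      have hred : ∀ (b : A) (n : ℕ), QuotientGroup.mk' (Subgroup.center A) (b ^ n) =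
          QuotientGroup.mk' _ (b ^ (n % p)) := fun b n => by
        have h1 : QuotientGroup.mk' (Subgroup.center A) (b ^ p) = 1 := (QuotientGroup.eq_one_iff _).2 (hpow b)
        conv_lhs => rw [← Nat.div_add_mod n p]
        rw [pow_add, map_mul, pow_mul, map_pow _ (b ^ p), h1, one_pow, one_mul]
      refine ⟨(⟨i % p, Nat.mod_lt _ hp.out.pos⟩, ⟨j % p, Nat.mod_lt _ hp.out.pos⟩), ?_⟩
      have he : a = (⟨z, hZA hz⟩ : A) * (⟨u₀, hUQ hu₀⟩ : A) ^ i * (⟨x, hxA⟩ : A) ^ j := Subtype.ext haz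
      have hz1 : QuotientGroup.mk' (Subgroup.center A) (⟨z, hZA hz⟩ : A) = 1 :=
        (QuotientGroup.eq_one_iff _).2 ((hZmem _).2 hz)
      rw [he, map_mul, map_mul, hz1, one_mul, hred _ i, hred _ j]
      exact map_mul _ _ _
    rw [Subgroup.index_eq_card]
    refine (Nat.card_le_card_of_surjective f hf).trans ?_
    rw [Nat.card_prod, Nat.card_fin, pow_two]
  obtain ⟨hne3, htwo⟩ := hsmall hidx
  obtain rfl : p = 2 := by have := hp.out.two_le; omega
  -- now the centre has order two and `U` is elementary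
  have hxZ : (⟨x, hxA⟩ : A) ∉ Subgroup.center A := fun h => hx'V (Subgroup.mem_map_of_mem π (hZU ((hZmem _).1 h)))
  have hZc : Zg ≤ Subgroup.zpowers c := by
    rintro _ ⟨z, hz, rfl⟩
    obtain ⟨y, rfl⟩ := hsurj ⟨x, hxA⟩ hxZ z hz
    obtain ⟨z', hz', i, j, hy⟩ := hform y y.2
    have h1 : ∀ n : ℕ, x * u₀ ^ n * x⁻¹ = c ^ n * u₀ ^ n := fun n => by
      have hcu : Commute c u₀ := (hZcen c hcZ u₀ (hUQ hu₀)).symm
      rw [← hcu.mul_pow, ← conj_pow]
      congr 1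
      rw [hc]; group
    have e : x * (y : G) * x⁻¹ * (y : G)⁻¹ = c ^ i := by
      rw [hy]
      calc x * (z' * u₀ ^ i * x ^ j) * x⁻¹ * (z' * u₀ ^ i * x ^ j)⁻¹
          = (x * z') * u₀ ^ i * x⁻¹ * (z' * u₀ ^ i)⁻¹ := by group
        _ = z' * (x * u₀ ^ i * x⁻¹) * (u₀ ^ i)⁻¹ * z'⁻¹ := by rw [hZcen z' hz' x hxA]; group
        _ = (z' * c ^ i) * z'⁻¹ := by rw [h1]; group
        _ = c ^ i := by rw [← hZcen z' hz' _ (A.pow_mem (hZA hcZ) i)] ; group
    have e' : A.subtype ⁅(⟨x, hxA⟩ : A), y⁆ = x * (y : G) * x⁻¹ * (y : G)⁻¹ := by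
      simp [commutatorElement_def]
    rw [e', e]; exact Subgroup.npow_mem_zpowers c i
  have hc2 : c ^ 2 = 1 := by
    have hcx : c * (u₀ * x) = x * u₀ := by rw [hc]; group
    have h1 : x * u₀ ^ 2 * x⁻¹ = c ^ 2 * u₀ ^ 2 := by
      rw [← (show Commute c u₀ from (hZcen c hcZ u₀ (hUQ hu₀)).symm).mul_pow, ← conj_pow]
      congr 1
      rw [hc]; group
    rw [hZcen _ (hpowG u₀ (hUQ hu₀)) x hxA, mul_inv_cancel_right] at h1
    exact mul_right_cancel (h1.symm.trans (one_mul _).symm)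
  have hY1 : Y = ⊥ := by
    by_contra hne
    obtain ⟨y, hy, hy1⟩ := Y.bot_or_exists_ne_one.resolve_left hne
    have hcard : Nat.card (Subgroup.zpowers c) ∣ 2 := by
      rw [Nat.card_zpowers]; exact orderOf_dvd_of_pow_eq_one hc2
    rcases Nat.prime_two.eq_one_or_self_of_dvd _ hcard with h | h
    · have h2 := hZc (hYZ hy)
      rw [Subgroup.card_eq_one.1 h, Subgroup.mem_bot] at h2
      exact hy1 h2
    · have h2 := zpowers_eq_of_card_prime h (hZc (hYZ hy)) hy1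
      have hcY : c ∈ Y := (Subgroup.zpowers_le.2 hy) (h2.symm ▸ Subgroup.mem_zpowers c)
      exact hc1 ((QuotientGroup.eq_one_iff _).2 hcY)
  have hu₀2 : u₀ ^ 2 = 1 := by
    have h : u₀ ^ 2 ∈ Y := ⟨(⟨u₀, hu₀⟩ : U) ^ 2, CfsgLib.CoprimeAction.pow_mem_frattini hUp _, rfl⟩
    rwa [hY1, Subgroup.mem_bot] at h
  exact hu₀Z ((hZmem _).1 (htwo rfl ⟨u₀, hUQ hu₀⟩ (Subtype.ext hu₀2)))

theorem pLengthLE_one {X : Type*} [Group X] [Finite X] (hX : Cfsg.IsMinimalNonNilpotent X) (P : Sylow p X)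
    (hPn : (P : Subgroup X).Normal) (hP1 : (P : Subgroup X) ≠ ⊥) (hG : Cfsg.IsPSolvable p G) (Q : Sylow p G)
    (hQ : Nonempty (↥(Q : Subgroup G) ≃* ↥(P : Subgroup X))) : Cfsg.PLengthLE p 1 G := by
  classical
  obtain ⟨e⟩ := hQ
  have hgood := good_of_equiv e.symm (good_of_minimal hX P hPn hP1)
  refine CfsgLib.PLengthComm.pLength_of_core ?_
  set K := Cfsg.pPrimeCore p G
  haveI : K.Normal := Cfsg.pPrimeCore_normal p G
  set π := QuotientGroup.mk' K
  have hinj : Function.Injective (π.subgroupMap (Q : Subgroup G)) := by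
    rw [← MonoidHom.ker_eq_bot_iff, eq_bot_iff]
    intro a ha
    have haK : (a : G) ∈ K := (QuotientGroup.eq_one_iff _).1 (congrArg Subtype.val (MonoidHom.mem_ker.1 ha))
    obtain ⟨i, hi⟩ := IsPGroup.iff_orderOf.1 Q.2 a
    rw [← Subgroup.orderOf_coe] at hi
    have h1 : orderOf (a : G) = 1 := Nat.eq_one_of_dvd_coprimes
      ((CfsgLib.PCore.pPrimeCore_coprime p G).symm.pow_left i) (dvd_of_eq hi)
      (Subgroup.orderOf_dvd_natCard _ haK)
    exact Subgroup.mem_bot.2 (Subtype.ext (orderOf_eq_one_iff.1 h1))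
  let e' : ↥(Q : Subgroup G) ≃* ↥((Q : Subgroup G).map π) :=
    MulEquiv.ofBijective (π.subgroupMap _) ⟨hinj, π.subgroupMap_surjective _⟩
  let Qb := Sylow.mapSurjective (QuotientGroup.mk'_surjective K) Q
  have hgood' : Good p (Qb : Subgroup (G ⧸ K)) := by
    rw [Sylow.coe_mapSurjective]
    exact good_of_equiv e' hgood
  have h0 : Cfsg.pPrimeCore p (G ⧸ K) = ⊥ := CfsgLib.PCore.pPrimeCore_quotient
  have hle := sylow_le_pCore (CfsgLib.PCore.isPSolvable_quotient hG K) h0 Qb hgood'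
  haveI : (Cfsg.pCore p (G ⧸ K)).Normal := Cfsg.pCore_normal p _
  refine CfsgLib.PLengthComm.pLength_of_normal_sylow (N := Cfsg.pCore p (G ⧸ K))
    (CfsgLib.PCore.isPGroup_pCore p _) fun hd => ?_
  exact Qb.not_dvd_index (hd.trans (Subgroup.index_dvd_of_le hle))

end CfsgLib.SchmidtPLength
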