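import Cfsg.Agent.HallHigmanB.TopLayer
import Cfsg.Agent.PCore.PSolvable

/-!
A `p`-group of class two acting quadratically on an elementary abelian self-centralizing normal subgroup
of a `p`-solvable group, with commutator maps onto its centre.
-/

set_option autoImplicit false
set_option linter.style.haveILetI false
set_option linter.unusedSectionVars false

namespace CfsgLib.SchmidtPLength

open scoped Pointwise

variable {H : Type*} [Group H] [Finite H] {p : ℕ} [hp : Fact p.Prime]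

/-- The hypotheses. -/
structure Setup (p : ℕ) (V P Z : Subgroup H) : Prop where
  normal : V.Normal
  comm : ∀ a ∈ V, ∀ b ∈ V, a * b = b * a
  expo : ∀ a ∈ V, a ^ p = 1
  cent : Subgroup.centralizer (V : Set H) ≤ V
  pcore : ∀ N : Subgroup H, N.Normal → IsPGroup p N → N ≤ V
  psol : Cfsg.IsPSolvable p H
  sylow : ∀ L : Subgroup H, IsPGroup p L → ∃ g : H, ∀ l ∈ L, g * l * g⁻¹ ∈ P
  isP : IsPGroup p P
  zle : Z ≤ V
  zle' : Z ≤ P
  zcen : ∀ z ∈ Z, ∀ e ∈ P, e * z = z * e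
  vp : ∀ e ∈ P, ∀ v ∈ V, e * v * e⁻¹ * v⁻¹ ∈ Z
  pv : ∀ a ∈ P, ∀ b ∈ P, a * b * a⁻¹ * b⁻¹ ∈ V
  ppow : ∀ a ∈ P, a ^ p ∈ V
  surj : ∀ s ∈ V, s ∉ Z → ∀ z ∈ Z, ∃ e ∈ P, e * s * e⁻¹ * s⁻¹ = z
  nle : ¬ P ≤ V

variable {V P Z : Subgroup H}

theorem Setup.pCore_quotient (S : Setup p V P Z) (hn : V.Normal) :
    Cfsg.pCore p (H ⧸ V) = ⊥ := by
  haveI := hn
  have hVp : IsPGroup p V := fun a => ⟨1, Subtype.ext (by simpa using S.expo a a.2)⟩
  set π := QuotientGroup.mk' V
  haveI : (Cfsg.pCore p (H ⧸ V)).Normal := Cfsg.pCore_normal p _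
  have h1 : (Cfsg.pCore p (H ⧸ V)).comap π ≤ V := S.pcore _ inferInstance
    ((CfsgLib.PCore.isPGroup_pCore p _).comap_of_ker_isPGroup π (by rw [QuotientGroup.ker_mk']; exact hVp))
  rw [eq_bot_iff]
  intro y hy
  obtain ⟨y, rfl⟩ := QuotientGroup.mk'_surjective V y
  exact Subgroup.mem_bot.2 ((QuotientGroup.eq_one_iff _).2 (h1 hy))

open scoped IsMulCommutative in
/-- A quadratic element forces `p ≤ 3`. -/
theorem Setup.le_three (S : Setup p V P Z) : p ≤ 3 := by
  haveI := S.normal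
  obtain ⟨x, hxP, hxV⟩ := SetLike.not_le_iff_exists.1 S.nle
  haveI : IsMulCommutative V := ⟨⟨fun a b => Subtype.ext (S.comm a a.2 b b.2)⟩⟩
  haveI : Module (ZMod p) (Additive V) := AddCommGroup.zmodModule (n := p) (G := Additive V) fun a => by
    rw [← ofMul_toMul a, ← ofMul_pow,
      show (Additive.toMul a) ^ p = 1 from Subtype.ext (by simpa using S.expo _ (Additive.toMul a).2)]
    rfl
  let ρ₀ : H →* Module.End (ZMod p) (Additive V) := (CfsgLib.ExtraFpf.conjRep V p).comp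
    ((MonoidHom.id H).codRestrict (Subgroup.normalizer (V : Set H)) fun g => by
      rw [Subgroup.normalizer_eq_top_iff.2 S.normal]; exact Subgroup.mem_top _)
  have hρ₀ : ∀ g : H, ∀ a : Additive V, ((Additive.toMul (ρ₀ g a) : V) : H) =
      g * ((Additive.toMul a : V) : H) * g⁻¹ := fun g a => rfl
  have hker : ∀ g, ρ₀ g = 1 ↔ g ∈ V := fun g => by
    refine (CfsgLib.ExtraFpf.conjRep_eq_one V p _).trans ⟨fun h => S.cent h, fun h => ?_⟩
    exact Subgroup.mem_centralizer_iff.2 fun a ha => S.comm a ha g h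
  let ρ : H ⧸ V →* Module.End (ZMod p) (Additive V) := QuotientGroup.lift V ρ₀ fun g hg => (hker g).2 hg
  have hρ : Function.Injective ρ := by
    rw [← MonoidHom.ker_eq_bot_iff, eq_bot_iff]
    intro a ha
    obtain ⟨g, rfl⟩ := QuotientGroup.mk'_surjective V a
    exact Subgroup.mem_bot.2 ((QuotientGroup.eq_one_iff g).2 ((hker g).1 ha))
  have hx1 : QuotientGroup.mk' V x ≠ 1 := fun h => hxV ((QuotientGroup.eq_one_iff _).1 h)
  haveI : Nontrivial (Additive V) := by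
    by_contra hnt
    rw [not_nontrivial_iff_subsingleton] at hnt
    exact hx1 (hρ (LinearMap.ext fun a => Subsingleton.elim _ _))
  have hord : orderOf (QuotientGroup.mk' V x) = p ^ 1 := by
    rw [pow_one]
    refine orderOf_eq_prime ?_ hx1
    rw [← map_pow]
    exact (QuotientGroup.eq_one_iff _).2 (S.ppow x hxP)
  have hR : (ρ (QuotientGroup.mk' V x) - 1) ^ 2 = 0 := by
    refine LinearMap.ext fun a => ?_
    rw [pow_two, Module.End.mul_apply, LinearMap.zero_apply]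
    show ρ₀ x (ρ₀ x a - a) - (ρ₀ x a - a) = 0
    refine sub_eq_zero.2 (Additive.toMul.injective (Subtype.ext ?_))
    rw [hρ₀, toMul_sub, Subgroup.coe_div, hρ₀, div_eq_mul_inv]
    have hd := S.vp x hxP _ (Additive.toMul a).2
    have := S.zcen _ hd x hxP
    rw [this, mul_inv_cancel_right]
  rcases CfsgLib.HallHigmanB.theorem_B_field ρ hρ (CfsgLib.PCore.isPSolvable_quotient S.psol V)
      (S.pCore_quotient S.normal) _ 1 hord 2 hR with h | ⟨n₀, q, m, h1, h2, -, -, -, -, h6⟩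
  · rw [pow_one] at h; omega
  · obtain rfl : n₀ = 1 := by omega
    simp at h6
    omega

/-- The elements centralizing `W` and `V / W`. -/
def stab (V W : Subgroup H) [V.Normal] : Subgroup H where
  carrier := {g | (∀ u ∈ V, g * u * g⁻¹ * u⁻¹ ∈ W) ∧ ∀ w ∈ W, g * w = w * g}
  one_mem' := ⟨fun u _ => by simp, fun w _ => by simp⟩
  mul_mem' := fun {a b} ha hb => ⟨fun u hu => by
      have h1 := hb.1 u hu
      have e : a * b * u * (a * b)⁻¹ * u⁻¹ = (a * (b * u * b⁻¹ * u⁻¹) * a⁻¹) * (a * u * a⁻¹ * u⁻¹) := by group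
      rw [e, ha.2 _ h1, mul_inv_cancel_right]
      exact W.mul_mem h1 (ha.1 u hu),
    fun w hw => by rw [mul_assoc, hb.2 w hw, ← mul_assoc, ha.2 w hw, mul_assoc]⟩
  inv_mem' := fun {g} hg => ⟨fun u hu => by
      have hv : g⁻¹ * u * g ∈ V := by simpa using (inferInstance : V.Normal).conj_mem u hu g⁻¹
      have h := W.inv_mem (hg.1 _ hv)
      have e : g⁻¹ * u * g⁻¹⁻¹ * u⁻¹ = (g * (g⁻¹ * u * g) * g⁻¹ * (g⁻¹ * u * g)⁻¹)⁻¹ := by group
      rw [e]; exact h,
    fun w hw => ((show Commute g w from hg.2 w hw).inv_left).eq⟩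

theorem mem_stab {V W : Subgroup H} [V.Normal] {g : H} :
    g ∈ stab V W ↔ (∀ u ∈ V, g * u * g⁻¹ * u⁻¹ ∈ W) ∧ ∀ w ∈ W, g * w = w * g := Iff.rfl

theorem stab_conj {V W : Subgroup H} [V.Normal] {n : H} (hn : n ∈ Subgroup.normalizer (W : Set H)) {g : H}
    (hg : g ∈ stab V W) : n * g * n⁻¹ ∈ stab V W := by
  refine ⟨fun u hu => ?_, fun w hw => ?_⟩
  · have hv : n⁻¹ * u * n ∈ V := by simpa using (inferInstance : V.Normal).conj_mem u hu n⁻¹
    have h := (Subgroup.mem_normalizer_iff.1 hn _).1 (hg.1 _ hv)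
    have e : n * g * n⁻¹ * u * (n * g * n⁻¹)⁻¹ * u⁻¹ =
        n * (g * (n⁻¹ * u * n) * g⁻¹ * (n⁻¹ * u * n)⁻¹) * n⁻¹ := by group
    rw [e]; exact h
  · have hv : n⁻¹ * w * n ∈ W := by
      have := (Subgroup.mem_normalizer_iff.1 (Subgroup.inv_mem _ hn) w).1 hw
      simpa using this
    have h := hg.2 _ hv
    calc n * g * n⁻¹ * w = n * (g * (n⁻¹ * w * n)) * n⁻¹ := by group
      _ = w * (n * g * n⁻¹) := by rw [h]; group

theorem stab_isPGroup (S : Setup p V P Z) [V.Normal] {W : Subgroup H} (hW : W ≤ V) :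
    IsPGroup p ↥(stab V W) := by
  rintro ⟨g, hg⟩
  refine ⟨2, Subtype.ext ?_⟩
  show g ^ p ^ 2 = 1
  have hgp : g ^ p ∈ V := by
    refine S.cent (Subgroup.mem_centralizer_iff.2 fun u hu => ?_)
    set c := g * u * g⁻¹ * u⁻¹ with hc
    have hcW : c ∈ W := hg.1 u hu
    have hgc : Commute g c := hg.2 c hcW
    have hiter : ∀ i : ℕ, g ^ i * u * (g ^ i)⁻¹ = c ^ i * u := by
      intro i
      induction i with
      | zero => simp
      | succ i ih =>
        have h3 : g ^ (i + 1) * u * (g ^ (i + 1))⁻¹ = g * (g ^ i * u * (g ^ i)⁻¹) * g⁻¹ := by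
          rw [pow_succ']; group
        rw [h3, ih, pow_succ]
        have h4 : Commute g (c ^ i) := hgc.pow_right i
        rw [← mul_assoc g, h4.eq]
        rw [hc]; group
    have := hiter p
    rw [S.expo c (hW hcW), one_mul, mul_inv_eq_iff_eq_mul] at this
    exact this.symm
  rw [pow_two, pow_mul]
  exact S.expo _ hgp

/-- An element of `P` normalizing `W` commutes on `V` with every element of `stab V W`. -/
theorem stab_comm (S : Setup p V P Z) [V.Normal] {W : Subgroup H} (hW : W ≤ V) {x y : H} (hx : x ∈ P)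
    (hxW : x ∈ Subgroup.normalizer (W : Set H)) (hy : y ∈ stab V W) :
    ∀ u ∈ V, x * (y * u * y⁻¹) * x⁻¹ = y * (x * u * x⁻¹) * y⁻¹ := by
  have hxs : x ∈ Subgroup.normalizer (stab V W : Set H) :=
    Subgroup.mem_normalizer_fintype fun g hg => stab_conj hxW hg
  have hL : IsPGroup p ↥(Subgroup.zpowers x ⊔ stab V W) :=
    IsPGroup.to_sup_of_normal_right' (S.isP.to_le (Subgroup.zpowers_le.2 hx)) (stab_isPGroup S hW)
      (Subgroup.zpowers_le.2 hxs)
  obtain ⟨g, hg⟩ := S.sylow _ hL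
  have h := S.pv _ (hg x (Subgroup.mem_sup_left (Subgroup.mem_zpowers x))) _
    (hg y (Subgroup.mem_sup_right hy))
  have hc : x * y * x⁻¹ * y⁻¹ ∈ V := by
    have := (inferInstance : V.Normal).conj_mem _ h g⁻¹
    convert this using 1; group
  intro u hu
  have hv : y * (x * u * x⁻¹) * y⁻¹ ∈ V :=
    (inferInstance : V.Normal).conj_mem _ ((inferInstance : V.Normal).conj_mem u hu x) y
  have e : x * (y * u * y⁻¹) * x⁻¹ =
      (x * y * x⁻¹ * y⁻¹) * (y * (x * u * x⁻¹) * y⁻¹) * (x * y * x⁻¹ * y⁻¹)⁻¹ := by group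
  rw [e, S.comm _ hc _ hv, mul_inv_cancel_right]

/-- The centre image has order `p`. -/
theorem Setup.card_center (S : Setup p V P Z) : Nat.card Z = p := by
  classical
  haveI := S.normal
  set π := QuotientGroup.mk' V with hπ
  set A := P.map π with hA
  set K := Cfsg.pPrimeCore p (H ⧸ V)
  haveI hKn : K.Normal := Cfsg.pPrimeCore_normal p _
  haveI : IsMulCommutative A := ⟨⟨fun a b => by
    obtain ⟨_, a, ha, rfl⟩ := a
    obtain ⟨_, b, hb, rfl⟩ := b
    refine Subtype.ext ?_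
    show π a * π b = π b * π a
    rw [← mul_inv_eq_one, mul_inv_rev, ← map_inv, ← map_inv, ← map_mul, ← map_mul, ← map_mul]
    refine (QuotientGroup.eq_one_iff _).2 ?_
    rw [← mul_assoc]; exact S.pv a ha b hb⟩⟩
  have hexp : ∀ a ∈ A, a ^ p = 1 := by
    rintro _ ⟨a, ha, rfl⟩
    rw [← map_pow]; exact (QuotientGroup.eq_one_iff _).2 (S.ppow a ha)
  have hA0 : A ≠ ⊥ := fun h => S.nle fun a ha => (QuotientGroup.eq_one_iff _).1
    (Subgroup.mem_bot.1 (h ▸ Subgroup.mem_map_of_mem π ha))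
  have hcop : (Nat.card A).Coprime (Nat.card K) := by
    obtain ⟨i, hi⟩ := IsPGroup.iff_card.1 (S.isP.map π)
    rw [hi]
    exact ((CfsgLib.PCore.pPrimeCore_coprime p _).symm).pow_left i
  have hAK : ¬ A ≤ Subgroup.centralizer (K : Set (H ⧸ V)) := fun h => hA0 (by
    have h1 := h.trans (CfsgLib.HallHigmanB.centralizer_pPrimeCore_le
      (CfsgLib.PCore.isPSolvable_quotient S.psol V) (S.pCore_quotient S.normal))
    rw [← inf_eq_left.2 h1]
    exact CfsgLib.CoprimeAction.inf_eq_bot_of_coprime hcop)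
  obtain ⟨B, hBA, hBi, hBk⟩ : ∃ B : Subgroup (H ⧸ V), B ≤ A ∧ B.relIndex A = p ∧
      ¬ K ⊓ Subgroup.centralizer (B : Set (H ⧸ V)) ≤ Subgroup.centralizer (A : Set (H ⧸ V)) := by
    by_contra hcon
    push Not at hcon
    refine hAK fun a ha => ?_
    have := CfsgLib.CoprimeAction.le_of_hyperplane_centralizers_le hA0 hexp
      (by rw [Subgroup.normalizer_eq_top_iff.2 hKn]; exact le_top) hcop hcon
    exact Subgroup.mem_centralizer_iff.2 fun k hk => ((Subgroup.mem_centralizer_iff.1 (this hk)) a ha).symm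
  obtain ⟨k, ⟨hkK, hkB⟩, hkA⟩ := SetLike.not_le_iff_exists.1 hBk
  rw [Subgroup.mem_centralizer_iff] at hkA
  push Not at hkA
  obtain ⟨_, ⟨x, hxP, rfl⟩, hkx⟩ := hkA
  set a := π x
  have haA : a ∈ A := Subgroup.mem_map_of_mem π hxP
  have haB : a ∉ B := fun h => hkx (Subgroup.mem_centralizer_iff.1 hkB a h)
  have hsup : A ≤ B ⊔ Subgroup.zpowers a := by
    have hle : B ⊔ Subgroup.zpowers a ≤ A := sup_le hBA (Subgroup.zpowers_le.2 haA)
    have h1 := Subgroup.relIndex_mul_relIndex B (B ⊔ Subgroup.zpowers a) A le_sup_left hle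
    rw [hBi] at h1
    rcases hp.out.eq_one_or_self_of_dvd _ ⟨_, h1.symm⟩ with h | h
    · exact absurd (Subgroup.relIndex_eq_one.1 h (Subgroup.mem_sup_right (Subgroup.mem_zpowers a))) haB
    · rw [h] at h1
      exact Subgroup.relIndex_eq_one.1 (mul_left_cancel₀ hp.out.ne_zero (by rw [h1, mul_one]))
  let T : Subgroup H := V ⊓ Subgroup.centralizer ({b | b ∈ P ∧ π b ∈ B} : Set H)
  have hTmem : ∀ u, u ∈ T ↔ u ∈ V ∧ ∀ b ∈ P, π b ∈ B → b * u = u * b := fun u => by
    rw [Subgroup.mem_inf, Subgroup.mem_centralizer_iff]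
    exact and_congr_right fun _ => ⟨fun h b hb hb' => h b ⟨hb, hb'⟩, fun h b hb => h b hb.1 hb.2⟩
  obtain ⟨c₀, hc₀⟩ := QuotientGroup.mk'_surjective V k
  have hTc : ∀ u ∈ T, c₀ * u * c₀⁻¹ ∈ T := by
    intro u hu
    obtain ⟨huV, hub⟩ := (hTmem u).1 hu
    refine (hTmem _).2 ⟨(inferInstance : V.Normal).conj_mem u huV c₀, fun b hb hbB => ?_⟩
    set v := b⁻¹ * (c₀⁻¹ * b * c₀) with hv
    have hvV : v ∈ V := by
      refine (QuotientGroup.eq_one_iff _).1 ?_
      show π v = 1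
      rw [hv, map_mul, map_mul, map_mul, map_inv, map_inv, hc₀, mul_assoc k⁻¹,
        Subgroup.mem_centralizer_iff.1 hkB _ hbB, inv_mul_cancel_left, inv_mul_cancel]
    have h1 : (b * v) * u = u * (b * v) := by
      rw [mul_assoc, S.comm v hvV u huV, ← mul_assoc, hub b hb hbB, mul_assoc]
    rw [show b * v = c₀⁻¹ * b * c₀ by rw [hv]; group] at h1
    calc b * (c₀ * u * c₀⁻¹) = c₀ * ((c₀⁻¹ * b * c₀) * u) * c₀⁻¹ := by group
      _ = c₀ * u * c₀⁻¹ * b := by rw [h1]; group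
  have hZT : Z ≤ T := fun z hz => (hTmem z).2 ⟨S.zle hz, fun b hb _ => S.zcen z hz b hb⟩
  obtain ⟨s, hsT, hsZ⟩ : ∃ s ∈ T, s ∉ Z := by
    by_contra hcon
    push Not at hcon
    have hcZ : c₀ ∈ Subgroup.normalizer (Z : Set H) :=
      Subgroup.mem_normalizer_fintype fun z hz => hcon _ (hTc z (hZT hz))
    have hxs : x ∈ stab V Z := ⟨fun u hu => S.vp x hxP u hu, fun z hz => S.zcen z hz x hxP⟩
    have hd : c₀ * x * c₀⁻¹ * x⁻¹ ∈ stab V Z :=
      (stab V Z).mul_mem (stab_conj hcZ hxs) ((stab V Z).inv_mem hxs)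
    obtain ⟨i, hi⟩ := IsPGroup.iff_orderOf.1 (stab_isPGroup S S.zle) ⟨_, hd⟩
    rw [Subgroup.orderOf_mk] at hi
    have hdK : π (c₀ * x * c₀⁻¹ * x⁻¹) ∈ K := by
      rw [map_mul, map_mul, map_mul, map_inv, map_inv, hc₀, mul_assoc, mul_assoc]
      refine K.mul_mem hkK ?_
      rw [← mul_assoc]
      exact hKn.conj_mem _ (K.inv_mem hkK) _
    have h1 : orderOf (π (c₀ * x * c₀⁻¹ * x⁻¹)) = 1 :=
      Nat.eq_one_of_dvd_coprimes ((CfsgLib.PCore.pPrimeCore_coprime p (H ⧸ V)).symm.pow_left i)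
        (hi ▸ orderOf_map_dvd π _) (Subgroup.orderOf_dvd_natCard _ hdK)
    rw [orderOf_eq_one_iff, map_mul, map_mul, map_mul, map_inv, map_inv, hc₀, mul_inv_eq_one,
      mul_inv_eq_iff_eq_mul] at h1
    exact hkx h1.symm
  obtain ⟨hsV, hsb⟩ := (hTmem s).1 hsT
  set c := x * s * x⁻¹ * s⁻¹ with hc
  have hcZ : c ∈ Z := S.vp x hxP s hsV
  have hgen : Z ≤ Subgroup.zpowers c := by
    intro z hz
    obtain ⟨e, heP, rfl⟩ := S.surj s hsV hsZ z hz
    have he : π e ∈ B ⊔ Subgroup.zpowers a := hsup (Subgroup.mem_map_of_mem π heP)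
    have hnorm : Subgroup.zpowers a ≤ Subgroup.normalizer (B : Set (H ⧸ V)) :=
      Subgroup.zpowers_le.2 (Subgroup.mem_normalizer_fintype fun β hβ => by
        have : a * β = β * a := congrArg Subtype.val
          (Std.Commutative.comm (op := fun (u v : A) => u * v) ⟨a, haA⟩ ⟨β, hBA hβ⟩)
        rwa [this, mul_inv_cancel_right])
    have he' : π e ∈ ((Subgroup.zpowers a : Set (H ⧸ V)) * (B : Set (H ⧸ V))) := by
      rw [← Subgroup.coe_mul_of_left_le_normalizer_right _ _ hnorm, sup_comm]; exact he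
    obtain ⟨u, hu, β, hβ, huβ⟩ := he'
    obtain ⟨i, rfl⟩ := (isOfFinOrder_of_finite a).mem_powers_iff_mem_zpowers.2 hu
    set b := (x ^ i)⁻¹ * e with hb
    have hbP : b ∈ P := P.mul_mem (P.inv_mem (P.pow_mem hxP i)) heP
    have hbB : π b ∈ B := by
      have : π b = β := by
        rw [hb, map_mul, map_inv, map_pow]
        simp only at huβ
        rw [← huβ, inv_mul_cancel_left]
      rw [this]; exact hβ
    have hiter : ∀ j : ℕ, x ^ j * s * (x ^ j)⁻¹ = c ^ j * s := by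
      intro j
      induction j with
      | zero => simp
      | succ j ih =>
        have h3 : x ^ (j + 1) * s * (x ^ (j + 1))⁻¹ = x * (x ^ j * s * (x ^ j)⁻¹) * x⁻¹ := by
          rw [pow_succ']; group
        have h4 : Commute x (c ^ j) := (show Commute x c from S.zcen c hcZ x hxP).pow_right j
        rw [h3, ih, ← mul_assoc x, h4.eq, pow_succ, hc]; group
    have h5 : e * s * e⁻¹ * s⁻¹ = c ^ i := by
      have h6 : b * s * b⁻¹ = s := by rw [hsb b hbP hbB, mul_inv_cancel_right]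
      have h7 : e = x ^ i * b := by rw [hb]; group
      rw [h7, show x ^ i * b * s * (x ^ i * b)⁻¹ * s⁻¹ = x ^ i * (b * s * b⁻¹) * (x ^ i)⁻¹ * s⁻¹ by group,
        h6, hiter, mul_inv_cancel_right]
    rw [h5]; exact Subgroup.npow_mem_zpowers c i
  have hle : Nat.card Z ∣ p := by
    refine (Subgroup.card_dvd_of_le hgen).trans ?_
    rw [Nat.card_zpowers]
    exact orderOf_dvd_of_pow_eq_one (S.expo c (S.zle hcZ))
  rcases hp.out.eq_one_or_self_of_dvd _ hle with h | h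
  · exfalso
    refine S.nle fun e he => S.cent (Subgroup.mem_centralizer_iff.2 fun u hu => ?_)
    have h1 := S.vp e he u hu
    rw [Subgroup.card_eq_one.1 h, Subgroup.mem_bot, mul_inv_eq_one, mul_inv_eq_iff_eq_mul] at h1
    exact h1.symm
  · exact h

theorem zpowers_eq_of_card_prime {Z : Subgroup H} (hZ : Nat.card Z = p) {z : H} (hz : z ∈ Z) (h1 : z ≠ 1) :
    Subgroup.zpowers z = Z := by
  have hle := Subgroup.zpowers_le.2 hz
  refine Subgroup.eq_of_le_of_card_ge hle ?_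
  rcases hp.out.eq_one_or_self_of_dvd _ (hZ ▸ Subgroup.card_dvd_of_le hle) with h | h
  · rw [Nat.card_zpowers, orderOf_eq_one_iff] at h; exact absurd h h1
  · rw [h, hZ]

theorem commute_of_mem_zpowers {x w s : H} (h : x * w = w * x) (hs : s ∈ Subgroup.zpowers w) : x * s = s * x := by
  obtain ⟨i, rfl⟩ := Subgroup.mem_zpowers_iff.1 hs
  exact ((show Commute x w from h).zpow_right i).eq

/-- Modulo `V` the group `P` is cyclic. -/
theorem Setup.cyclic_top (S : Setup p V P Z) : ∃ x ∈ P, x ∉ V ∧ P ≤ V ⊔ Subgroup.zpowers x := by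
  classical
  haveI := S.normal
  by_contra hcon
  have h2 : ∀ x ∈ P, ¬ P ≤ V ⊔ Subgroup.zpowers x := fun x hx hle => by
    by_cases hxV : x ∈ V
    · exact S.nle fun e he => by
        have := hle he
        rwa [sup_eq_left.2 (Subgroup.zpowers_le.2 hxV)] at this
    · exact hcon ⟨x, hx, hxV, hle⟩
  have hZp := S.card_center
  obtain ⟨z₀, hz₀, hz₀1⟩ : ∃ z ∈ Z, z ≠ (1 : H) := by
    rcases Z.bot_or_exists_ne_one with h | h
    · rw [h, Subgroup.card_bot] at hZp; exact absurd hZp.symm hp.out.ne_one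
    · exact h
  have hZz := zpowers_eq_of_card_prime hZp hz₀ hz₀1
  obtain ⟨g, x₀, hx₀, hx₀w⟩ : ∃ g : H, ∃ x ∈ P, x * (g * z₀ * g⁻¹) ≠ g * z₀ * g⁻¹ * x := by
    by_contra hall
    push Not at hall
    set W₀ := Subgroup.normalClosure ({z₀} : Set H) with hW₀
    haveI : W₀.Normal := Subgroup.normalClosure_normal
    have hWV : W₀ ≤ V := Subgroup.normalClosure_le_normal (Set.singleton_subset_iff.2 (S.zle hz₀))
    have hstab : (stab V W₀).Normal := ⟨fun y hy n => stab_conj (by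
      rw [Subgroup.normalizer_eq_top_iff.2 inferInstance]; trivial) hy⟩
    have hsV := S.pcore _ hstab (stab_isPGroup S hWV)
    refine S.nle fun e he => hsV ⟨fun u hu => ?_, fun w hw => ?_⟩
    · have h := S.vp e he u hu
      rw [← hZz] at h
      have hz : z₀ ∈ W₀ := Subgroup.subset_normalClosure (Set.mem_singleton z₀)
      exact (Subgroup.zpowers_le.2 hz) h
    · have hle : W₀ ≤ Subgroup.centralizer ({e} : Set H) := by
        rw [hW₀, Subgroup.normalClosure, Subgroup.closure_le]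
        intro t ht
        obtain ⟨a, ha, hat⟩ := Group.mem_conjugatesOfSet_iff.1 ht
        obtain ⟨g, rfl⟩ := isConj_iff.1 hat
        rw [Set.mem_singleton_iff] at ha
        subst ha
        exact Subgroup.mem_centralizer_singleton_iff.2 (hall g e he).symm
      exact (Subgroup.mem_centralizer_singleton_iff.1 (hle hw)).symm
  set w := g * z₀ * g⁻¹ with hw
  have hwV : w ∈ V := (inferInstance : V.Normal).conj_mem _ (S.zle hz₀) g
  have hwc : Nat.card (Subgroup.zpowers w) = p := by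
    rw [Nat.card_zpowers, hw, show g * z₀ * g⁻¹ = (MulAut.conj g).toMonoidHom z₀ from rfl,
      orderOf_injective (MulAut.conj g).toMonoidHom (MulAut.conj g).injective, ← Nat.card_zpowers, hZz, hZp]
  set W := Subgroup.zpowers z₀ ⊔ Subgroup.zpowers w with hW
  have hWV : W ≤ V := sup_le (Subgroup.zpowers_le.2 (S.zle hz₀)) (Subgroup.zpowers_le.2 hwV)
  have hZW : Z ≤ W := hZz ▸ le_sup_left
  have hwW : Subgroup.zpowers w ≤ W := le_sup_right
  -- conjugates of elements of `P`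
  have hP' : ∀ e ∈ P, (∀ u ∈ V, g * e * g⁻¹ * u * (g * e * g⁻¹)⁻¹ * u⁻¹ ∈ Subgroup.zpowers w) ∧
      g * e * g⁻¹ * w = w * (g * e * g⁻¹) := by
    intro e he
    refine ⟨fun u hu => ?_, ?_⟩
    · have hv : g⁻¹ * u * g ∈ V := by simpa using (inferInstance : V.Normal).conj_mem u hu g⁻¹
      have h := S.vp e he _ hv
      rw [← hZz] at h
      obtain ⟨i, hi⟩ := Subgroup.mem_zpowers_iff.1 h
      refine Subgroup.mem_zpowers_iff.2 ⟨i, ?_⟩
      rw [hw, conj_zpow, hi]; group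
    · calc g * e * g⁻¹ * w = g * (e * z₀) * g⁻¹ := by rw [hw]; group
        _ = w * (g * e * g⁻¹) := by rw [S.zcen z₀ hz₀ e he, hw]; group
  have hnormW : ∀ e : H, (∀ u ∈ V, e * u * e⁻¹ * u⁻¹ ∈ W) → e ∈ Subgroup.normalizer (W : Set H) :=
    fun e he => Subgroup.mem_normalizer_fintype fun t ht => by
      simpa using W.mul_mem (he t (hWV ht)) ht
  have hx₀N := hnormW x₀ fun u hu => hZW (S.vp x₀ hx₀ u hu)
  have hfin : ∀ y ∈ stab V W, ∀ u ∈ V, x₀ * (y * u * y⁻¹ * u⁻¹) = y * u * y⁻¹ * u⁻¹ * x₀ := by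
    intro y hy u hu
    obtain ⟨z, hzd⟩ : ∃ z, z = x₀ * u * x₀⁻¹ * u⁻¹ := ⟨_, rfl⟩
    obtain ⟨s, hsd⟩ : ∃ s, s = y * u * y⁻¹ * u⁻¹ := ⟨_, rfl⟩
    have hz : z ∈ Z := hzd ▸ S.vp x₀ hx₀ u hu
    have hsV : s ∈ V := hsd ▸ hWV (hy.1 u hu)
    rw [← hsd]
    have h := stab_comm S hWV hx₀ hx₀N hy u hu
    rw [show y * u * y⁻¹ = s * u by rw [hsd]; group, show x₀ * u * x₀⁻¹ = z * u by rw [hzd]; group] at h
    have h1 : (x₀ * s * x₀⁻¹) * (z * u) = z * (s * u) := by
      calc (x₀ * s * x₀⁻¹) * (z * u) = x₀ * (s * u) * x₀⁻¹ := by rw [hzd]; group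
        _ = (y * z) * (u * y⁻¹) := by rw [h]; group
        _ = z * (s * u) := by rw [hy.2 z (hZW hz), hsd]; group
    have h3 : (x₀ * s * x₀⁻¹) * z = s * z := by
      rw [← mul_assoc, ← mul_assoc, ← S.comm s hsV z (S.zle hz)] at h1
      exact mul_right_cancel h1
    exact mul_inv_eq_iff_eq_mul.1 (mul_right_cancel h3)
  have hx₀V : x₀ ∉ V := fun h => hx₀w (S.comm x₀ h w hwV)
  by_cases hA : ∀ e ∈ P, g * e * g⁻¹ * z₀ = z₀ * (g * e * g⁻¹)
  · -- the conjugate fixes `Z`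
    set x' := g * x₀ * g⁻¹ with hx'
    have hx'V : x' ∉ V := fun h => hx₀V (by
      have := (inferInstance : V.Normal).conj_mem _ h g⁻¹
      convert this using 1; rw [hx']; group)
    have hx's : x' ∈ stab V W := by
      refine ⟨fun u hu => hwW ((hP' x₀ hx₀).1 u hu), fun t ht => ?_⟩
      have hle : W ≤ Subgroup.centralizer ({x'} : Set H) :=
        sup_le (Subgroup.zpowers_le.2 (Subgroup.mem_centralizer_singleton_iff.2 (hA x₀ hx₀).symm))
          (Subgroup.zpowers_le.2 (Subgroup.mem_centralizer_singleton_iff.2 (hP' x₀ hx₀).2.symm))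
      exact (Subgroup.mem_centralizer_singleton_iff.1 (hle ht)).symm
    obtain ⟨u, hu, hne⟩ : ∃ u ∈ V, x' * u * x'⁻¹ * u⁻¹ ≠ 1 := by
      by_contra hall
      push Not at hall
      exact hx'V (S.cent (Subgroup.mem_centralizer_iff.2 fun u hu =>
        (mul_inv_eq_iff_eq_mul.1 (mul_inv_eq_one.1 (hall u hu))).symm))
    have h := hfin x' hx's u hu
    have hgen := zpowers_eq_of_card_prime hwc ((hP' x₀ hx₀).1 u hu) hne
    exact hx₀w (commute_of_mem_zpowers h (hgen.symm ▸ Subgroup.mem_zpowers w))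
  · push Not at hA
    obtain ⟨e₁, he₁, he₁z⟩ := hA
    set x' := g * e₁ * g⁻¹ with hx'
    obtain ⟨e, he, hesup⟩ := SetLike.not_le_iff_exists.1 (h2 x₀ hx₀)
    set z₁ := x₀ * w * x₀⁻¹ * w⁻¹ with hz₁
    have hz₁Z : z₁ ∈ Z := S.vp x₀ hx₀ w hwV
    have hz₁1 : z₁ ≠ 1 := fun h => hx₀w (mul_inv_eq_iff_eq_mul.1 (mul_inv_eq_one.1 h))
    have hez : e * w * e⁻¹ * w⁻¹ ∈ Subgroup.zpowers z₁ := by
      rw [zpowers_eq_of_card_prime hZp hz₁Z hz₁1]; exact S.vp e he w hwV
    obtain ⟨j, hj⟩ := (isOfFinOrder_of_finite z₁).mem_powers_iff_mem_zpowers.2 hez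
    simp only at hj
    set y := (x₀ ^ j)⁻¹ * e with hy
    have hyP : y ∈ P := P.mul_mem (P.inv_mem (P.pow_mem hx₀ j)) he
    have hyV : y ∉ V := fun h => hesup (by
      rw [show e = x₀ ^ j * y by rw [hy]; group]
      exact Subgroup.mul_mem _ (Subgroup.mem_sup_right (Subgroup.npow_mem_zpowers x₀ j)) (Subgroup.mem_sup_left h))
    have hiter : ∀ i : ℕ, x₀ ^ i * w * (x₀ ^ i)⁻¹ = z₁ ^ i * w := by
      intro i
      induction i with
      | zero => simp
      | succ i ih =>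
        have h3 : x₀ ^ (i + 1) * w * (x₀ ^ (i + 1))⁻¹ = x₀ * (x₀ ^ i * w * (x₀ ^ i)⁻¹) * x₀⁻¹ := by
          rw [pow_succ']; group
        have h4 : Commute x₀ (z₁ ^ i) := (show Commute x₀ z₁ from S.zcen z₁ hz₁Z x₀ hx₀).pow_right i
        rw [h3, ih, ← mul_assoc x₀, h4.eq, pow_succ, hz₁]; group
    have hyw : y * w = w * y := by
      have h5 : e * w * e⁻¹ = x₀ ^ j * w * (x₀ ^ j)⁻¹ := by
        rw [hiter, hj]; group
      calc y * w = (x₀ ^ j)⁻¹ * (e * w * e⁻¹) * e := by rw [hy]; group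
        _ = w * y := by rw [h5, hy]; group
    have hys : y ∈ stab V W := by
      refine ⟨fun u hu => hZW (S.vp y hyP u hu), fun t ht => ?_⟩
      have hle : W ≤ Subgroup.centralizer ({y} : Set H) :=
        sup_le (Subgroup.zpowers_le.2 (Subgroup.mem_centralizer_singleton_iff.2 (S.zcen z₀ hz₀ y hyP).symm))
          (Subgroup.zpowers_le.2 (Subgroup.mem_centralizer_singleton_iff.2 hyw.symm))
      exact (Subgroup.mem_centralizer_singleton_iff.1 (hle ht)).symm
    obtain ⟨u₀, hu₀, hne⟩ : ∃ u ∈ V, y * u * y⁻¹ * u⁻¹ ≠ 1 := by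
      by_contra hall
      push Not at hall
      exact hyV (S.cent (Subgroup.mem_centralizer_iff.2 fun u hu =>
        (mul_inv_eq_iff_eq_mul.1 (mul_inv_eq_one.1 (hall u hu))).symm))
    set z := y * u₀ * y⁻¹ * u₀⁻¹ with hzd
    have hzZ : z ∈ Z := S.vp y hyP u₀ hu₀
    have hx'W := hnormW x' fun u hu => hwW ((hP' e₁ he₁).1 u hu)
    have hy₂ : x' * y * x'⁻¹ ∈ stab V W := stab_conj hx'W hys
    have h := hfin _ hy₂ (x' * u₀ * x'⁻¹) ((inferInstance : V.Normal).conj_mem u₀ hu₀ x')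
    rw [show x' * y * x'⁻¹ * (x' * u₀ * x'⁻¹) * (x' * y * x'⁻¹)⁻¹ * (x' * u₀ * x'⁻¹)⁻¹ =
      x' * z * x'⁻¹ by rw [hzd]; group] at h
    set w₂ := x' * z * x'⁻¹ * z⁻¹ with hw₂
    have hw₂w : w₂ ∈ Subgroup.zpowers w := (hP' e₁ he₁).1 z (S.zle hzZ)
    have hw₂1 : w₂ ≠ 1 := fun h1 => he₁z (commute_of_mem_zpowers
      (mul_inv_eq_iff_eq_mul.1 (mul_inv_eq_one.1 h1))
      (by rw [zpowers_eq_of_card_prime hZp hzZ hne]; exact hz₀))
    have hc : x₀ * w₂ = w₂ * x₀ :=
      ((show Commute x₀ (x' * z * x'⁻¹) from h).mul_right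
        ((show Commute x₀ z from S.zcen z hzZ x₀ hx₀).inv_right)).eq
    exact hx₀w (commute_of_mem_zpowers hc
      ((zpowers_eq_of_card_prime hwc hw₂w hw₂1).symm ▸ Subgroup.mem_zpowers w))

end CfsgLib.SchmidtPLength
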